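import Cfsg.Agent.Lib.PGroup.UnitIndex.Main

/-!
The minimal index of a proper subgroup of a projective special unitary group.
-/

set_option autoImplicit false
set_option linter.unusedSectionVars false

namespace CfsgLib.PGroup.UnitIndex

open scoped Matrix
open Matrix CfsgLib.SU CfsgLib.Classical CfsgLib.Classical.HermIsoCount

variable {F : Type*} [Field F] [Fintype F] {q : ℕ} (C : UCtx F q) {n : ℕ}

/-- The number of isotropic points is the number of non-zero isotropic vectors over `q² - 1`. -/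
theorem card_upoint (hF : Fintype.card F = q ^ 2) (hn : 3 ≤ n) :
    Nat.card (UPoint C n) * (q ^ 2 - 1) = isoCount C n := by
  classical
  choose r hr hr0 hrx using fun x : UPoint C n => upt_surj C x
  let toV : UPoint C n × Fˣ → {w : Fin n → F // w ≠ 0 ∧ C.form w w = 0} := fun p =>
    ⟨(p.2 : F) • r p.1, smul_ne_zero p.2.ne_zero (hr0 p.1),
      by rw [C.form_smul_left, C.form_smul_right, hr, mul_zero, mul_zero]⟩
  have hbij : Function.Bijective toV := by
    constructor
    · rintro ⟨L, a⟩ ⟨L', b⟩ h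
      have h' : (a : F) • r L = (b : F) • r L' := congrArg Subtype.val h
      obtain rfl : L = L' := by
        rw [hrx L, hrx L', upt_eq_iff C hn]
        exact ⟨(a : F)⁻¹ * b, by rw [← smul_smul, ← h', smul_smul, inv_mul_cancel₀ a.ne_zero, one_smul]⟩
      exact Prod.ext rfl (Units.ext (smul_left_injective F (hr0 L) h'))
    · rintro ⟨v, hv0, hv⟩
      obtain ⟨c, hc⟩ := (upt_eq_iff C hn hv hv0 (hr (upt C v hv hv0)) (hr0 _)).1 (hrx (upt C v hv hv0))
      refine ⟨(upt C v hv hv0, Units.mk0 c fun h => hv0 (by rw [hc, h, zero_smul])), Subtype.ext ?_⟩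
      exact hc.symm
  rw [isoCount, ← Nat.card_congr (Equiv.ofBijective toV hbij), Nat.card_prod, Nat.card_units,
    Nat.card_eq_fintype_card (α := F), hF]

include C in
/-- The minimal index in the projective special unitary group. -/
theorem psu_min_index (hF : Fintype.card F = q ^ 2) (hq : 3 ≤ q) (hn : 6 ≤ n) :
    (∀ H : Subgroup (Cfsg.PSU n F q), H ≠ ⊤ → isoCount C n / (q ^ 2 - 1) ≤ H.index) ∧
      ∃ H : Subgroup (Cfsg.PSU n F q), H.index = isoCount C n / (q ^ 2 - 1) := by
  classical
  haveI : Finite (Cfsg.PSU n F q) := Quotient.finite _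
  haveI : Finite (UPoint C n) := Subtype.finite
  have hq1 : 0 < q ^ 2 - 1 := by
    have : 3 ^ 2 ≤ q ^ 2 := Nat.pow_le_pow_left hq 2
    omega
  have hval : isoCount C n / (q ^ 2 - 1) = Nat.card (UPoint C n) := by
    rw [← card_upoint C hF (by omega), Nat.mul_div_cancel _ hq1]
  rw [hval]
  refine ⟨fun H hH => ?_, ?_⟩
  · by_contra hlt
    rw [not_le] at hlt
    letI : MulAction ↥(Cfsg.SU n F q) (Cfsg.PSU n F q ⧸ H) := MulAction.compHom _ pr
    haveI : Finite (Cfsg.PSU n F q ⧸ H) := Quotient.finite _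
    have hsmall : Nat.card (Cfsg.PSU n F q ⧸ H) * (q ^ 2 - 1) < isoCount C n := by
      rw [← card_upoint C hF (by omega)]
      exact Nat.mul_lt_mul_of_pos_right hlt hq1
    refine hH (eq_top_iff.2 fun g _ => ?_)
    obtain ⟨a, rfl⟩ := QuotientGroup.mk'_surjective _ g
    have h1 : (QuotientGroup.mk (pr a * 1) : Cfsg.PSU n F q ⧸ H) = QuotientGroup.mk 1 :=
      all_fix (C := C) hF hq hn hsmall (QuotientGroup.mk 1) a
    rwa [QuotientGroup.eq, mul_one, mul_one, inv_mem_iff] at h1
  · obtain ⟨P⟩ := C.exists_pair (n := n) (by omega)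
    haveI : MulAction.IsPretransitive (Cfsg.PSU n F q) (UPoint C n) :=
      (uPoint_preprimitive C (by omega)).toIsPretransitive
    exact ⟨MulAction.stabilizer (Cfsg.PSU n F q) (upt C P.e P.ee P.e_ne_zero),
      MulAction.index_stabilizer_of_transitive _ _⟩

end CfsgLib.PGroup.UnitIndex
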