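import Cfsg.Agent.Lib.PGroup.UnitIndex.Dichotomy
import Cfsg.Agent.Lib.Perm.Trans.UnitSU

/-!
A moved point yields a moved point fixed by a large part of the stabiliser of a hyperbolic pair.
-/

set_option autoImplicit false
set_option linter.unusedSectionVars false

namespace CfsgLib.PGroup.UnitIndex

open scoped Matrix
open Matrix Module CfsgLib.SU CfsgLib.Classical CfsgLib.Classical.HermIsoCount

variable {F : Type*} [Field F] [Fintype F] {q : ℕ} {C : UCtx F q} {n : ℕ} (P : UPair C n)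

local notation "V" => (Fin n → F)

theorem exists_fixed_scalar (hF : Fintype.card F = q ^ 2) (hq : 3 ≤ q) :
    ∃ c : F, C.bar c = c ∧ c ≠ 0 ∧ c ≠ 1 := by
  classical
  obtain ⟨δ, hδ0, hδ⟩ := C.exists_trace_zero
  haveI : Fintype (zset C) := Fintype.ofFinite _
  obtain ⟨t, ht⟩ : ∃ t : zset C, t ∉ ({0, ⟨δ, hδ⟩} : Finset (zset C)) := by
    by_contra hcon
    simp only [not_exists, not_not] at hcon
    have h1 := (Finset.card_le_card fun t _ => hcon t : (Finset.univ : Finset (zset C)).card ≤ _).trans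
      Finset.card_le_two
    rw [Finset.card_univ, ← Nat.card_eq_fintype_card, card_zset hF] at h1
    omega
  simp only [Finset.mem_insert, Finset.mem_singleton, not_or] at ht
  refine ⟨t.1 / δ, by rw [map_div₀, bar_zset t.2, bar_zset (C := C) hδ, neg_div_neg_eq],
    div_ne_zero (fun h => ht.1 (Subtype.ext h)) hδ0, fun h => ht.2 (Subtype.ext ?_)⟩
  exact (div_eq_one_iff_eq hδ0).1 h

/-- A torus of the pair acting trivially on its orthogonal. -/
theorem exists_torus {l : F} (hl : C.bar l = l) (hl0 : l ≠ 0) :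
    ∃ τ : ↥(Cfsg.SU n F q), P.Diag τ l ∧ ∀ w ∈ P.perp, τ.1.1 *ᵥ w = w := by
  have hdet : (P.torus l hl0).1.1.det = 1 := by
    show (C.rmap P.e P.f (l - 1) * C.rmap P.f P.e ((C.bar l)⁻¹ - 1)).det = _
    rw [Matrix.det_mul, C.det_rmap, C.det_rmap, P.ef, P.fe, hl]
    field_simp
    ring
  refine ⟨C.mkSU (P.torus l hl0).1.1 hdet (fun u v => C.mem_gu_iff.1 (P.torus l hl0).2 u v), ⟨?_, ?_⟩,
    fun w hw => ?_⟩ <;> rw [UCtx.mkSU_val, P.torus_mulVec]
  · rw [P.ee, P.ef]; simp [sub_smul]
  · rw [P.fe, P.ff]; simp [sub_smul]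
  · rw [hw.1, hw.2]; simp

/-- A subgroup with all transvections of the orthogonal of the pair contains its pointwise fixer. -/
theorem mem_of_tv (hF : Fintype.card F = q ^ 2) (hq : 3 ≤ q) {S : Subgroup ↥(Cfsg.SU n F q)}
    (hS : ∀ z ∈ P.perp, ∀ (hz : C.form z z = 0) (s : F) (hs : s + C.bar s = 0), C.tv z hz s hs ∈ S)
    {g : ↥(Cfsg.SU n F q)} (hg : P.Diag g 1) : g ∈ S := by
  classical
  open CfsgLib.Perm.Trans CfsgLib.Perm.Trans.Unit Cfsg.Geo in
  have hf : IsUnitaryForm C.bar (Cfsg.hermForm n F q) := isUnitary_hermForm C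
  open CfsgLib.Perm.Trans CfsgLib.Perm.Trans.Unit Cfsg.Geo in
  let φ : ↥(Cfsg.SU n F q) →* GL (Fin n) F :=
    (Matrix.SpecialLinearGroup.toGL).comp (Cfsg.SU n F q).subtype
  open CfsgLib.Perm.Trans CfsgLib.Perm.Trans.Unit Cfsg.Geo CfsgLib.Perm.Asch in
  have hM : HasTv hf (S.map φ) P.perp := by
    intro u hu huu c hc
    have h0 := utv_orth hf huu c
    refine ⟨h0, C.tv u (by rw [← hermForm_eq_form C]; exact huu) c (by rw [hc, add_neg_cancel]),
      hS u hu _ c _, Units.ext (Matrix.ext_iff_mulVec.2 fun x => ?_)⟩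
    show (C.tv u (by rw [← hermForm_eq_form C]; exact huu) c (by rw [hc, add_neg_cancel])).1.1 *ᵥ x = _
    rw [C.tv_mulVec, tv_mulVec, smul_dotProduct, hv_dot, smul_eq_mul, hermForm_eq_form C]
  open CfsgLib.Perm.Trans CfsgLib.Perm.Trans.Unit Cfsg.Geo CfsgLib.Perm.Asch in
  have hW : IsNondegenerateOn (Cfsg.hermForm n F q) P.perp := by
    intro w hw hw0
    obtain ⟨x, hx⟩ := C.exists_form_eq_one hw0
    have hx' : C.form (P.proj x) w = 1 := by
      conv_rhs => rw [← hx, P.decomp x]
      simp [C.form_add_left, C.form_smul_left, C.form_swap_zero hw.1, C.form_swap_zero hw.2]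
    refine ⟨⟨P.proj x, P.proj_mem x, by rw [hermForm_eq_form C, hx']; exact one_ne_zero⟩,
      ⟨P.proj x, P.proj_mem x, ?_⟩⟩
    rw [hermForm_eq_form C, ← C.bar_form, hx', map_one]
    exact one_ne_zero
  open CfsgLib.Perm.Trans CfsgLib.Perm.Trans.Unit Cfsg.Geo CfsgLib.Perm.Asch in
  have hfix : φ g ∈ fixU hf P.perp := by
    refine ⟨⟨fun x y => g.2 x y, Units.ext g.1.2⟩, fun x hx => ?_⟩
    show g.1.1 *ᵥ x = x
    have h0 : P.proj x = 0 := by
      by_contra hne
      obtain ⟨⟨z, hz, hzx⟩, -⟩ := hW _ (P.proj_mem x) hne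
      refine hzx ?_
      have h1 := hx z hz
      rw [hermForm_eq_form C] at h1 ⊢
      apply C.form_swap_zero
      rw [P.decomp x] at h1
      simpa [C.form_add_left, C.form_smul_left, C.form_swap_zero hz.1, C.form_swap_zero hz.2] using h1
    conv_lhs => rw [P.decomp x, h0, add_zero]
    conv_rhs => rw [P.decomp x, h0, add_zero]
    rw [Matrix.mulVec_add, Matrix.mulVec_smul, Matrix.mulVec_smul, hg.1, hg.2, map_one, inv_one, one_smul,
      one_smul]
  open CfsgLib.Perm.Trans CfsgLib.Perm.Trans.Unit in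
  obtain ⟨g', hg', hgg⟩ := mem_of_fix hf hW hM (Or.inr (by rw [hF]; nlinarith)) hfix
  have : g' = g := Subtype.ext (Subtype.ext (congrArg Units.val hgg))
  exact this ▸ hg'

theorem diag_perp {g : ↥(Cfsg.SU n F q)} {l : F} (hg : P.Diag g l) {w : V} (hw : w ∈ P.perp) :
    g.1.1 *ᵥ w ∈ P.perp := by
  have hbl : C.bar l ≠ 0 := by simpa using hg.ne_zero
  have h := P.perp.smul_mem (C.bar l)⁻¹ (hg.mem hw)
  rwa [smul_smul, inv_mul_cancel₀ hbl, one_smul] at h

variable {X : Type*} [MulAction ↥(Cfsg.SU n F q) X]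

/-- The point is moved by a transvection at `e`. -/
def Moved (y : X) : Prop := ∃ t ∈ zset C, qel P 0 t • y ≠ y

theorem moved_levi {g : ↥(Cfsg.SU n F q)} {l : F} (hg : P.Diag g l) {y : X} (hy : Moved P y) :
    Moved P (g • y) := by
  obtain ⟨t, ht, hy⟩ := hy
  refine ⟨l * C.bar l * t, zset_mul_fixed ht (C.norm_fixed l), fun h => hy ?_⟩
  obtain ⟨h1, h2⟩ := qel_conj P hg (qok_zero P ht)
  rw [Matrix.mulVec_zero, smul_zero] at h2
  rw [← h2, mul_smul, inv_smul_smul, mul_smul] at h
  exact smul_left_cancel g h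

theorem moved_qel {w : V} {t : F} (h : Qok P w t) {y : X} (hy : Moved P y) :
    Moved P (qel P w t • y) := by
  obtain ⟨s, hs, hy⟩ := hy
  refine ⟨s, hs, fun h' => hy ?_⟩
  rw [← mul_smul, qel_zero_mul P h hs, ← qel_mul_zero P h hs, mul_smul] at h'
  exact smul_left_cancel _ h'

variable (hF : Fintype.card F = q ^ 2) (hq : 3 ≤ q) (hn : 6 ≤ n) [Finite X]
  (hsmall : Nat.card X * (q ^ 2 - 1) < isoCount C n)

include hF hq hn hsmall

theorem moved_free {y : X} (hy : Moved P y) {w : V} {t : F} (h : Qok P w t) (hfix : qel P w t • y = y) :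
    w = 0 ∧ t = 0 := by
  obtain ⟨t₀, ht₀, hy⟩ := hy
  obtain ⟨h1, h2⟩ := triv_of_moved P hF hq hn hsmall ht₀ hy
  obtain rfl := h1 w ⟨t, h, hfix⟩
  exact ⟨rfl, h2 t ⟨by have := h.2; rwa [C.form_zero_left, add_zero] at this, hfix⟩⟩

/-- The moved points form one orbit of the Eichler group. -/
theorem moved_orbit {y z : X} (hy : Moved P y) (hz : Moved P z) :
    ∃ w t, Qok P w t ∧ z = qel P w t • y := by
  classical
  by_contra hcon
  simp only [not_exists, not_and] at hcon
  choose τ hτ using fun w : P.perp => qok_exists P w.2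
  have hok : ∀ (w : P.perp) (t : zset C), Qok P w.1 (τ w + t.1) := fun w t =>
    ⟨w.2, by rw [map_add]; linear_combination (hτ w).2 + mem_zset.1 t.2⟩
  let base : Bool → X := fun b => if b then y else z
  have hbase : ∀ b, Moved P (base b) := fun b => by cases b <;> assumption
  let toX : Bool × P.perp × zset C → X := fun p => qel P p.2.1.1 (τ p.2.1 + p.2.2.1) • base p.1
  have hsep : ∀ {w w' : V} {t t' : F}, Qok P w t → Qok P w' t' → ∀ {a b : X},
      qel P w t • a = qel P w' t' • b → ((qel P w t)⁻¹ * qel P w' t') • b = a := by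
    intro w w' t t' _ _ a b h
    rw [mul_smul, ← h, inv_smul_smul]
  have hinj : Function.Injective toX := by
    rintro ⟨b, w, t⟩ ⟨b', w', t'⟩ h
    have h1 := hsep (hok w t) (hok w' t') h
    rw [qel_inv P (hok w t), qel_mul P (qok_neg P (hok w t)) (hok w' t')] at h1
    cases b <;> cases b'
    · obtain ⟨h2, h3⟩ := moved_free P hF hq hn hsmall (hbase false) (qok_mul P (qok_neg P (hok w t)) (hok w' t')) h1
      obtain rfl : w = w' := Subtype.ext (neg_add_eq_zero.1 h2)
      obtain rfl : t = t' := Subtype.ext (by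
        have h4 := (hok w t).2
        rw [C.form_neg_right, sub_neg_eq_add, map_add] at h3
        rw [map_add] at h4
        linear_combination h4 - h3)
      rfl
    · exact (hcon _ _ (qok_mul P (qok_neg P (hok w t)) (hok w' t')) h1.symm).elim
    · have h2 := hsep (hok w' t') (hok w t) h.symm
      rw [qel_inv P (hok w' t'), qel_mul P (qok_neg P (hok w' t')) (hok w t)] at h2
      exact (hcon _ _ (qok_mul P (qok_neg P (hok w' t')) (hok w t)) h2.symm).elim
    · obtain ⟨h2, h3⟩ := moved_free P hF hq hn hsmall (hbase true) (qok_mul P (qok_neg P (hok w t)) (hok w' t')) h1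
      obtain rfl : w = w' := Subtype.ext (neg_add_eq_zero.1 h2)
      obtain rfl : t = t' := Subtype.ext (by
        have h4 := (hok w t).2
        rw [C.form_neg_right, sub_neg_eq_add, map_add] at h3
        rw [map_add] at h4
        linear_combination h4 - h3)
      rfl
  have h1 := Nat.card_le_card_of_injective toX hinj
  rw [Nat.card_prod, Nat.card_prod, Nat.card_eq_fintype_card (α := Bool), Fintype.card_bool, natCard_perp,
    card_zset hF, hF, ← pow_mul, ← pow_succ] at h1
  have h2 := small_upper hF hq hn hsmall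
  obtain ⟨k, rfl⟩ : ∃ k, n = k + 6 := ⟨n - 6, by omega⟩
  simp only [show 2 * (k + 6 - 2) + 1 = 2 * k + 9 by omega, show 2 * (k + 6 - 2) + 3 = 2 * k + 11 by omega,
    show k + 6 - 2 + 2 = k + 6 by omega] at h1 h2
  have h3 := Nat.mul_le_mul_right (q ^ 2 - 1) h1
  have h4 : 3 ^ 2 ≤ q ^ 2 := Nat.pow_le_pow_left hq 2
  have h5 : 243 * q ^ (k + 6) ≤ q ^ (2 * k + 11) := small_pow hq 5 _ _ (by omega)
  have h6 : q ^ (2 * k + 11) = q ^ (2 * k + 9) * q ^ 2 := by rw [← pow_add]
  have h7 : 8 * q ^ 2 ≤ 9 * (q ^ 2 - 1) := by omega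
  have h8 : 16 * q ^ (2 * k + 11) ≤ 9 * (2 * q ^ (2 * k + 9) * (q ^ 2 - 1)) := by
    calc 16 * q ^ (2 * k + 11) = 2 * q ^ (2 * k + 9) * (8 * q ^ 2) := by rw [h6]; ring
      _ ≤ 2 * q ^ (2 * k + 9) * (9 * (q ^ 2 - 1)) := Nat.mul_le_mul_left _ h7
      _ = _ := by ring
  have : 0 < q ^ (2 * k + 11) := pow_pos (by omega) _
  omega

/-- A moved point with a large stabiliser. -/
theorem exists_good {y : X} (hy : Moved P y) :
    ∃ (x : X) (h : ↥(Cfsg.SU n F q)) (ν : F), Moved P x ∧ P.Diag h ν ∧ ν * C.bar ν ≠ 1 ∧ h • x = x ∧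
      ∀ g, P.Diag g 1 → g • x = x := by
  classical
  obtain ⟨l, hl, hl0, hl1⟩ := exists_fixed_scalar (C := C) hF hq
  obtain ⟨τ, hτ, hτW⟩ := exists_torus P hl hl0
  have hconj : ∀ {w : V} {t : F}, Qok P w t → Qok P (l • w) (l * l * t) ∧
      τ * qel P w t = qel P (l • w) (l * l * t) * τ := fun {w t} h => by
    obtain ⟨h1, h2⟩ := qel_conj P hτ h
    rw [hl, hτW w h.1] at h1 h2
    exact ⟨h1, by rw [← h2, inv_mul_cancel_right]⟩
  have h1l : (1 : F) - l ≠ 0 := sub_ne_zero.2 (Ne.symm hl1)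
  -- a moved point fixed by the torus
  obtain ⟨x₁, hx₁, hτx⟩ : ∃ x, Moved P x ∧ τ • x = x := by
    obtain ⟨w, t, hwt, hτy⟩ := moved_orbit P hF hq hn hsmall hy (moved_levi P hτ hy)
    set a := (1 - l)⁻¹ • w with ha
    have haw : l • a + w = a := by
      rw [ha, smul_smul]
      nth_rw 2 [← one_smul F w]
      rw [← add_smul]
      congr 1
      field_simp
      ring
    have hwa : w = (1 - l) • a := by rw [ha, smul_smul, mul_inv_cancel₀ h1l, one_smul]
    have hwl : C.form w (l • a) = (1 - l) * l * C.form a a := by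
      rw [C.form_smul_right, hl, hwa, C.form_smul_left]; ring
    have hwt2 : t + C.bar t + (1 - l) * (1 - l) * C.form a a = 0 := by
      have := hwt.2
      rw [hwa, C.form_smul_left, C.form_smul_right, map_sub, map_one, hl] at this
      linear_combination this
    obtain ⟨s, hsa, hse⟩ : ∃ s, Qok P a s ∧ l * l * s + t - C.form w (l • a) = s := by
      by_cases h2 : l * l = 1
      · obtain ⟨s, hs⟩ := qok_exists P (P.perp.smul_mem (1 - l)⁻¹ hwt.1)
        refine ⟨s, hs, ?_⟩
        have hττ : τ * τ = 1 := su_ext fun x => by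
          rw [suMat_mulVec_mul, su_one_mulVec]
          conv_lhs => rw [P.decomp x]
          simp only [Matrix.mulVec_add, Matrix.mulVec_smul, hτ.1, hτ.2, hl, smul_smul,
            hτW _ (P.proj_mem x)]
          rw [mul_assoc, h2, mul_assoc, ← mul_inv, h2, inv_one, mul_one, mul_one]
          exact (P.decomp x).symm
        obtain ⟨hw2, hc2⟩ := hconj hwt
        have h3 : τ • τ • y = y := by rw [← mul_smul, hττ, one_smul]
        rw [hτy, ← mul_smul, hc2, mul_smul, hτy, ← mul_smul, qel_mul P hw2 hwt] at h3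
        obtain ⟨-, h4⟩ := moved_free P hF hq hn hsmall hy (qok_mul P hw2 hwt) h3
        rw [h2, one_mul] at h4 ⊢
        rw [C.form_smul_right, hl] at h4
        have hneg : l = -1 := by
          have : (l - 1) * (l + 1) = 0 := by linear_combination h2
          exact eq_neg_of_add_eq_zero_left ((mul_eq_zero.1 this).resolve_left (sub_ne_zero.2 hl1))
        rw [hwl]
        have h5 : (2 : F) ≠ 0 := fun h => h1l (by rw [hneg]; linear_combination h)
        have h6 : C.form w w = 4 * C.form a a := by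
          rw [hwa, C.form_smul_left, C.form_smul_right, map_sub, map_one, hl, hneg]; ring
        rw [hneg] at h4 ⊢
        have h7 : 2 * (t + 2 * C.form a a) = 0 := by linear_combination h4 - h6
        have := (mul_eq_zero.1 h7).resolve_left h5
        linear_combination this
      · have h2' : (1 : F) - l * l ≠ 0 := sub_ne_zero.2 (Ne.symm h2)
        have h2'' : (1 : F) - l ^ 2 ≠ 0 := by rw [pow_two]; exact h2'
        refine ⟨(t - C.form w (l • a)) / (1 - l * l), ⟨P.perp.smul_mem _ hwt.1, ?_⟩, ?_⟩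
        · rw [hwl]
          simp only [map_div₀, map_sub, map_mul, map_one, hl, C.form_self_fixed]
          rw [← add_div, div_add' _ _ _ h2', div_eq_zero_iff]
          left
          linear_combination hwt2
        · rw [eq_div_iff h2']
          rw [add_sub_assoc, add_mul, mul_assoc (l * l), div_mul_cancel₀ _ h2']
          ring
    obtain ⟨hla, hca⟩ := hconj hsa
    refine ⟨qel P a s • y, moved_qel P hsa hy, ?_⟩
    rw [← mul_smul, hca, mul_smul, hτy, ← mul_smul, qel_mul P hla hwt, haw, hse]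
  -- points fixed by the torus differ by a transvection at `e`
  have hshift : ∀ z, Moved P z → τ • z = z → ∃ s ∈ zset C, z = qel P 0 s • x₁ := by
    intro z hz hτz
    obtain ⟨a, s, has, rfl⟩ := moved_orbit P hF hq hn hsmall hx₁ hz
    obtain ⟨hla, hca⟩ := hconj has
    rw [← mul_smul, hca, mul_smul, hτx] at hτz
    have h3 : ((qel P a s)⁻¹ * qel P (l • a) (l * l * s)) • x₁ = x₁ := by
      rw [mul_smul, hτz, inv_smul_smul]
    rw [qel_inv P has, qel_mul P (qok_neg P has) hla] at h3
    obtain ⟨h4, -⟩ := moved_free P hF hq hn hsmall hx₁ (qok_mul P (qok_neg P has) hla) h3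
    have ha0 : a = 0 := by
      have h5 : (1 - l) • a = 0 := by rw [sub_smul, one_smul, ← neg_eq_zero, neg_sub, ← h4]; abel
      exact (smul_eq_zero.1 h5).resolve_left h1l
    subst ha0
    exact ⟨s, by have := has.2; rwa [C.form_zero_left, add_zero] at this, rfl⟩
  have hcomm : ∀ {g : ↥(Cfsg.SU n F q)} {m : F}, P.Diag g m → τ * g = g * τ := fun {g m} hg => su_ext fun x => by
    rw [suMat_mulVec_mul, suMat_mulVec_mul]
    conv_lhs => rw [P.decomp x]
    conv_rhs => rw [P.decomp x]
    simp only [Matrix.mulVec_add, Matrix.mulVec_smul, hτ.1, hτ.2, hg.1, hg.2, smul_smul,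
      hτW _ (P.proj_mem x), hτW _ (diag_perp P hg (P.proj_mem x))]
    congr 2 <;> ring_nf
  have hfixed : ∀ {g : ↥(Cfsg.SU n F q)} {m : F}, P.Diag g m → ∃ i ∈ zset C, g • x₁ = qel P 0 i • x₁ :=
    fun {g m} hg => hshift _ (moved_levi P hg hx₁) (by rw [← mul_smul, hcomm hg, mul_smul, hτx])
  have hpass : ∀ {g : ↥(Cfsg.SU n F q)} {m s : F}, P.Diag g m → s ∈ zset C →
      g * qel P 0 s = qel P 0 (m * C.bar m * s) * g := fun {g m s} hg hs => by
    obtain ⟨-, h2⟩ := qel_conj P hg (qok_zero P hs)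
    rw [Matrix.mulVec_zero, smul_zero] at h2
    rw [← h2, inv_mul_cancel_right]
  have hzadd : ∀ {s s' : F}, s ∈ zset C → s' ∈ zset C → qel P 0 s * qel P 0 s' = qel P 0 (s + s') :=
    fun {s s'} hs hs' => by rw [qel_mul_zero P (qok_zero P hs) hs']
  have huniq : ∀ {s s' : F}, s ∈ zset C → s' ∈ zset C → qel P 0 s • x₁ = qel P 0 s' • x₁ → s = s' := by
    intro s s' hs hs' h
    have hd := (zset C).add_mem ((zset C).neg_mem hs) hs'
    have h1 : qel P 0 (-s + s') • x₁ = x₁ := by
      rw [← hzadd ((zset C).neg_mem hs) hs', mul_smul, ← h, ← mul_smul, hzadd ((zset C).neg_mem hs) hs,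
        neg_add_cancel, qel_zero, one_smul]
    exact neg_add_eq_zero.1 (moved_free P hF hq hn hsmall hx₁ (qok_zero P hd) h1).2
  -- a Levi element of norm different from one
  obtain ⟨h, ν, hh, hν⟩ := exists_levi P (by omega) hl hl0
  obtain ⟨i, hi, hhi⟩ := hfixed hh
  have hfix1 : ∀ g, P.Diag g 1 → g • x₁ = x₁ := by
    intro g hg
    refine MulAction.mem_stabilizer_iff.1 (mem_of_tv P hF hq ?_ hg)
    intro z hz hzz s hs
    rw [MulAction.mem_stabilizer_iff]
    rcases eq_or_ne z 0 with rfl | hz0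
    · rw [show C.tv (0 : V) hzz s hs = 1 from su_ext fun x => by rw [C.tv_mulVec, su_one_mulVec]; simp, one_smul]
    set u := C.tv z hzz s hs with hu
    have hud : P.Diag u 1 := P.diag_tv hz hzz s hs
    obtain ⟨r, hr, hur⟩ := hfixed hud
    -- the conjugate transvection acts in the same way
    have hhz0 : h.1.1 *ᵥ z ≠ 0 := su_mulVec_ne_zero h hz0
    obtain ⟨k, hk, hkz⟩ := exists_su_perp P (t := ![z]) (t' := ![h.1.1 *ᵥ z])
      (linearIndependent_unique_iff.2 hz0) (linearIndependent_unique_iff.2 hhz0)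
      (fun i => by fin_cases i; exact hz) (fun i => by fin_cases i; exact diag_perp P hh hz)
      (fun i j => by fin_cases i; fin_cases j; exact (C.form_su h z z).symm) (Or.inl (by omega))
    obtain ⟨j, hj, hkj⟩ := hfixed hk
    have hconjeq : h * u * h⁻¹ = k * u * k⁻¹ := by
      rw [C.tv_conj, C.tv_conj]
      exact C.tv_congr (hkz 0).symm rfl
    have hone : ∀ {a : F}, a ∈ zset C → k * qel P 0 a = qel P 0 a * k ∧ u * qel P 0 a = qel P 0 a * u := by
      intro a ha
      exact ⟨by rw [hpass hk ha, map_one, mul_one, one_mul], by rw [hpass hud ha, map_one, mul_one, one_mul]⟩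
    set N := ν * C.bar ν with hN
    have hN0 : N ≠ 0 := by rw [hν]; exact hl0
    have hNi : ∀ {a : F}, a ∈ zset C → N * a ∈ zset C := fun {a} ha => zset_mul_fixed ha (C.norm_fixed ν)
    have e1 : (h * u * h⁻¹) • (qel P 0 i • x₁) = qel P 0 (N * r + i) • x₁ := by
      rw [← hhi, mul_smul, inv_smul_smul, mul_smul, hur, ← mul_smul, hpass hh hr, mul_smul, hhi, ← mul_smul,
        hzadd (hNi hr) hi]
    have e2 : (k * u * k⁻¹) • (qel P 0 i • x₁) = qel P 0 (r + i) • x₁ := by
      have hk' : k⁻¹ • (qel P 0 i • x₁) = qel P 0 (i - j) • x₁ := by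
        rw [inv_smul_eq_iff, ← mul_smul, (hone ((zset C).sub_mem hi hj)).1, mul_smul, hkj, ← mul_smul,
          hzadd ((zset C).sub_mem hi hj) hj, sub_add_cancel]
      rw [mul_smul, hk', mul_smul, ← mul_smul u, (hone ((zset C).sub_mem hi hj)).2, mul_smul, hur,
        ← mul_smul (qel P 0 (i - j)),
        hzadd ((zset C).sub_mem hi hj) hr, ← mul_smul, (hone ((zset C).add_mem ((zset C).sub_mem hi hj) hr)).1,
        mul_smul, hkj, ← mul_smul, hzadd ((zset C).add_mem ((zset C).sub_mem hi hj) hr) hj]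
      congr 2; ring
    rw [hconjeq, e2] at e1
    have e3 := huniq ((zset C).add_mem hr hi) ((zset C).add_mem (hNi hr) hi) e1
    have hr0 : r = 0 := by
      have h5 : (N - 1) * r = 0 := by linear_combination -e3
      exact (mul_eq_zero.1 h5).resolve_left (sub_ne_zero.2 (by rw [hν]; exact hl1))
    rw [hur, hr0, qel_zero, one_smul]
  set j := i / (1 - ν * C.bar ν) with hj
  have hN1 : (1 : F) - ν * C.bar ν ≠ 0 := by rw [hν]; exact h1l
  have hjz : j ∈ zset C := by
    rw [hj, div_eq_inv_mul]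
    exact zset_mul_fixed hi (by rw [map_inv₀, map_sub, map_one, C.norm_fixed])
  refine ⟨qel P 0 j • x₁, h, ν, moved_qel P (qok_zero P hjz) hx₁, hh, by rw [hν]; exact hl1, ?_, fun g hg => ?_⟩
  · rw [← mul_smul, hpass hh hjz, mul_smul, hhi, ← mul_smul, hzadd (zset_mul_fixed hjz (C.norm_fixed ν)) hi]
    congr 2
    rw [hj]; field_simp; ring
  · rw [← mul_smul, hpass hg hjz, map_one, mul_one, one_mul, mul_smul, hfix1 g hg]

end CfsgLib.PGroup.UnitIndex
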