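import Cfsg.Agent.Lib.Classical.HermFrames
import Cfsg.Agent.Lib.SU.Borel
import Mathlib.Analysis.Fourier.FiniteAbelian.PontryaginDuality

/-!
Trace-zero scalars, Eichler elements and Levi elements of a hyperbolic pair in a unitary space.
-/

set_option autoImplicit false
set_option linter.unusedSectionVars false

namespace CfsgLib.PGroup.UnitIndex

open Matrix Module CfsgLib.SU

variable {F : Type*} [Field F] [Fintype F] {q : ℕ} (C : UCtx F q) {n : ℕ}

local notation "V" => (Fin n → F)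

/-- The scalars of trace zero. -/
def zset : AddSubgroup F where
  carrier := {t | t + C.bar t = 0}
  zero_mem' := by simp
  add_mem' {a b} ha hb := by
    simp only [Set.mem_ofPred_eq, map_add] at *
    linear_combination ha + hb
  neg_mem' {a} ha := by
    simp only [Set.mem_ofPred_eq, map_neg] at *
    linear_combination -ha

variable {C}

theorem mem_zset {t : F} : t ∈ zset C ↔ t + C.bar t = 0 := Iff.rfl

theorem bar_zset {t : F} (ht : t ∈ zset C) : C.bar t = -t := by
  have := mem_zset.1 ht; linear_combination this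

theorem zset_mul_fixed {t c : F} (ht : t ∈ zset C) (hc : C.bar c = c) : c * t ∈ zset C := by
  rw [mem_zset, map_mul, hc, ← mul_add, mem_zset.1 ht, mul_zero]

theorem mul_fixed_of_zset {μ t : F} (hμ : μ ∈ zset C) (ht : t ∈ zset C) : C.bar (μ * t) = μ * t := by
  rw [map_mul, bar_zset hμ, bar_zset ht, neg_mul_neg]

theorem inv_mem_zset {t : F} (ht : t ∈ zset C) : t⁻¹ ∈ zset C := by
  rw [mem_zset, map_inv₀, bar_zset ht, inv_neg, add_neg_cancel]

theorem card_zset (hF : Fintype.card F = q ^ 2) : Nat.card (zset C) = q := by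
  obtain ⟨δ, hδ0, hδ⟩ := C.exists_trace_zero
  have h := CfsgLib.Descent.card_fixedField_pow (F := F) C.bar
  rw [C.order_two, hF] at h
  refine (Nat.card_congr ?_).trans (Nat.pow_left_injective two_ne_zero h)
  exact
    { toFun := fun t => ⟨δ * t.1, mul_fixed_of_zset hδ t.2⟩
      invFun := fun c => ⟨c.1 * δ⁻¹, zset_mul_fixed (inv_mem_zset hδ) c.2⟩
      left_inv := fun t => Subtype.ext (show δ * t.1 * δ⁻¹ = t.1 by
        rw [mul_comm δ, mul_assoc, mul_inv_cancel₀ hδ0, mul_one])
      right_inv := fun c => Subtype.ext (show δ * (c.1 * δ⁻¹) = c.1 by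
        rw [mul_comm c.1, ← mul_assoc, mul_inv_cancel₀ hδ0, one_mul]) }

theorem exists_chi : ∃ ψ : AddChar F ℂ, ψ 1 ≠ 1 :=
  (AddChar.exists_apply_ne_zero (a := (1 : F))).2 one_ne_zero

variable (F) in
/-- An additive character which is non-trivial at one. -/
noncomputable def chi : AddChar F ℂ := (exists_chi (F := F)).choose

theorem chi_one_ne : chi F 1 ≠ 1 := (exists_chi (F := F)).choose_spec

theorem chi_separates {μ : F} (hμ : μ ∈ zset C) (h : ∀ t ∈ zset C, chi F (μ * t) = 1) : μ = 0 := by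
  by_contra h0
  have := h μ⁻¹ (inv_mem_zset hμ)
  rw [mul_inv_cancel₀ h0] at this
  exact chi_one_ne this

variable (P : UPair C n)

/-- Admissible parameters of an Eichler element. -/
def Qok (w : V) (t : F) : Prop := w ∈ P.perp ∧ t + C.bar t + C.form w w = 0

open _root_.Classical in
/-- An Eichler element, or one for parameters that are not admissible. -/
noncomputable def qel (w : V) (t : F) : ↥(Cfsg.SU n F q) :=
  if h : Qok P w t then P.eich w h.1 t h.2 else 1

theorem qel_eq {w : V} {t : F} (h : Qok P w t) : qel P w t = P.eich w h.1 t h.2 := dif_pos h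

theorem qok_zero {t : F} (ht : t ∈ zset C) : Qok P 0 t :=
  ⟨P.perp.zero_mem, by rw [C.form_zero_left, add_zero]; exact ht⟩

theorem qok_exists {w : V} (hw : w ∈ P.perp) : ∃ t, Qok P w t := by
  obtain ⟨t, ht⟩ := C.exists_trace (c := -C.form w w) (by rw [map_neg, C.form_self_fixed])
  exact ⟨t, hw, by rw [ht, neg_add_cancel]⟩

theorem qok_diff {w : V} {t t' : F} (h : Qok P w t) (h' : Qok P w t') : t' - t ∈ zset C := by
  rw [mem_zset, map_sub]; linear_combination h'.2 - h.2

theorem qok_mul {w w' : V} {t t' : F} (h : Qok P w t) (h' : Qok P w' t') :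
    Qok P (w + w') (t + t' - C.form w' w) :=
  ⟨P.perp.add_mem h.1 h'.1, P.eich_cond_mul h.2 h'.2⟩

theorem qel_mul {w w' : V} {t t' : F} (h : Qok P w t) (h' : Qok P w' t') :
    qel P w t * qel P w' t' = qel P (w + w') (t + t' - C.form w' w) := by
  rw [qel_eq P h, qel_eq P h', qel_eq P (qok_mul P h h'), P.eich_mul]

theorem qok_neg {w : V} {t : F} (h : Qok P w t) : Qok P (-w) (C.bar t) :=
  ⟨P.perp.neg_mem h.1, by
    rw [C.bar_bar, C.form_neg_left, C.form_neg_right]; linear_combination h.2⟩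

theorem qel_tv {t : F} (ht : t ∈ zset C) : qel P 0 t = C.tv P.e P.ee t ht := by
  rw [qel_eq P (qok_zero P ht)]; exact P.eich_zero_eq_tv t _

theorem qel_zero : qel P 0 0 = 1 := by
  rw [qel_tv P (zset C).zero_mem]
  refine su_ext fun x => ?_
  erw [C.tv_mulVec]
  rw [su_one_mulVec]; simp

theorem qel_inv {w : V} {t : F} (h : Qok P w t) : (qel P w t)⁻¹ = qel P (-w) (C.bar t) := by
  rw [inv_eq_iff_mul_eq_one, qel_mul P h (qok_neg P h), ← qel_zero P]
  congr 1
  · rw [add_neg_cancel]
  · rw [C.form_neg_left]; linear_combination h.2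

theorem qel_mulVec {w : V} {t : F} (h : Qok P w t) (x : V) :
    (qel P w t).1.1 *ᵥ x = x + C.form x P.e • w + (t * C.form x P.e - C.form x w) • P.e := by
  rw [qel_eq P h, P.eich_mulVec]

theorem qel_zero_mul {w : V} {t s : F} (h : Qok P w t) (hs : s ∈ zset C) :
    qel P 0 s * qel P w t = qel P w (t + s) := by
  rw [qel_mul P (qok_zero P hs) h, zero_add, C.form_zero_right]
  congr 1; ring

theorem qel_mul_zero {w : V} {t s : F} (h : Qok P w t) (hs : s ∈ zset C) :
    qel P w t * qel P 0 s = qel P w (t + s) := by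
  rw [qel_mul P h (qok_zero P hs), add_zero, C.form_zero_left, sub_zero]

theorem qel_conj {g : ↥(Cfsg.SU n F q)} {l : F} (hg : P.Diag g l) {w : V} {t : F} (h : Qok P w t) :
    Qok P (C.bar l • (g.1.1 *ᵥ w)) (l * C.bar l * t) ∧
      g * qel P w t * g⁻¹ = qel P (C.bar l • (g.1.1 *ᵥ w)) (l * C.bar l * t) := by
  obtain ⟨ht', he⟩ := hg.conj_eich h.1 h.2
  exact ⟨⟨hg.mem h.1, ht'⟩, by rw [qel_eq P h, he, qel_eq P ⟨hg.mem h.1, ht'⟩]⟩

/-! ### Independent tuples -/

theorem exists_forms {κ : Type*} [Fintype κ] {T : κ → V} (hT : LinearIndependent F T) (c : κ → F) :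
    ∃ x : V, ∀ i, C.form x (T i) = c i := by
  classical
  let L : V →ₗ[F] (κ → F) :=
    { toFun := fun x i => C.form x (T i)
      map_add' := fun x y => funext fun i => C.form_add_left x y (T i)
      map_smul' := fun a x => funext fun i => C.form_smul_left a x (T i) }
  suffices hL : LinearMap.range L = ⊤ by
    obtain ⟨x, hx⟩ := (LinearMap.range_eq_top.1 hL) c
    exact ⟨x, congrFun hx⟩
  by_contra hne
  obtain ⟨φ, hφ0, hφ⟩ := Submodule.exists_le_ker_of_lt_top _ (Ne.lt_top hne)
  have h1 : ∀ v : κ → F, φ v = ∑ i, v i * φ (Pi.single i 1) := fun v => by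
    conv_lhs => rw [pi_eq_sum_univ' v, map_sum]
    simp [map_smul]
  have h2 : ∑ i, C.bar (φ (Pi.single i 1)) • T i = 0 := by
    refine C.eq_zero_of_form' fun x => ?_
    have h3 : φ (L x) = 0 := LinearMap.mem_ker.1 (hφ (LinearMap.mem_range_self L x))
    rw [h1] at h3
    rw [← C.bar_form, C.form_sum_left, map_sum]
    simp only [C.form_smul_left, map_mul, C.bar_bar, C.bar_form]
    rw [← h3]
    exact Finset.sum_congr rfl fun i _ => mul_comm _ _
  have h4 := Fintype.linearIndependent_iff.1 hT _ h2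
  refine hφ0 (LinearMap.ext fun v => ?_)
  rw [h1, LinearMap.zero_apply, Finset.sum_eq_zero]
  intro i _
  rw [(map_eq_zero_iff _ C.bar.injective).1 (h4 i), mul_zero]

/-- A vector orthogonal to the orthogonal of a tuple lies in its span. -/
theorem mem_span_of_orth {κ : Type*} [Fintype κ] {T : κ → V} (hT : LinearIndependent F T) {x : V}
    (h : ∀ z : V, (∀ i, C.form z (T i) = 0) → C.form z x = 0) : x ∈ Submodule.span F (Set.range T) := by
  classical
  choose y hy using fun j => exists_forms (C := C) hT (Pi.single j 1)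
  suffices hx : x - ∑ i, C.form x (y i) • T i = 0 by
    rw [sub_eq_zero.1 hx]
    exact Submodule.sum_mem _ fun i _ => Submodule.smul_mem _ _ (Submodule.subset_span ⟨i, rfl⟩)
  refine C.eq_zero_of_form' fun z => ?_
  have hr : ∀ j, C.form (y j) (x - ∑ i, C.form x (y i) • T i) = 0 := fun j => by
    rw [C.form_sub_right, ← C.bar_form (∑ i, _) (y j), C.form_sum_left, map_sum]
    simp [C.form_smul_left, map_mul, C.bar_form, hy, Pi.single_apply]
  have hk : ∀ i, C.form (z - ∑ j, C.form z (T j) • y j) (T i) = 0 := fun i => by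
    rw [C.form_sub_left, C.form_sum_left]
    simp [C.form_smul_left, hy, Pi.single_apply]
  have hz : C.form (z - ∑ j, C.form z (T j) • y j) (x - ∑ i, C.form x (y i) • T i) = 0 := by
    rw [C.form_sub_right, h _ hk, ← C.bar_form (∑ i, _) (z - _), C.form_sum_left, map_sum, zero_sub,
      neg_eq_zero]
    refine Finset.sum_eq_zero fun i _ => ?_
    rw [C.form_smul_left, map_mul, C.bar_form (T i), hk, mul_zero]
  rw [C.form_sub_left, C.form_sum_left] at hz
  simp only [C.form_smul_left, hr, mul_zero, Finset.sum_const_zero, sub_zero] at hz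
  exact hz

theorem pair_indep {κ : Type*} [Fintype κ] {t : κ → V} (ht : LinearIndependent F t)
    (hp : ∀ i, t i ∈ P.perp) : LinearIndependent F (Sum.elim t ![P.e, P.f]) := by
  rw [Fintype.linearIndependent_iff]
  intro g hg
  rw [Fintype.sum_sum_type, Fin.sum_univ_two] at hg
  simp only [Sum.elim_inl, Sum.elim_inr, Matrix.cons_val_zero, Matrix.cons_val_one] at hg
  have h1 := congrArg (fun z => C.form z P.f) hg
  have h2 := congrArg (fun z => C.form z P.e) hg
  simp [C.form_add_left, C.form_sum_left, C.form_smul_left, P.ef, P.ff, P.ee, P.fe,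
    fun i => (hp i).1, fun i => (hp i).2, C.form_zero_left] at h1 h2
  rw [h1, h2, zero_smul, zero_smul, add_zero, add_zero] at hg
  have h3 := Fintype.linearIndependent_iff.1 ht _ hg
  rintro (i | j)
  · exact h3 i
  · fin_cases j
    · exact h1
    · exact h2

/-- An element of the unitary group fixing the pair and moving a tuple. -/
theorem exists_gu_perp {κ : Type*} [Fintype κ] {t t' : κ → V} (ht : LinearIndependent F t)
    (ht' : LinearIndependent F t') (hp : ∀ i, t i ∈ P.perp) (hp' : ∀ i, t' i ∈ P.perp)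
    (h : ∀ i j, C.form (t i) (t j) = C.form (t' i) (t' j)) :
    ∃ A : ↥(Cfsg.GU n F q), A.1.1 *ᵥ P.e = P.e ∧ A.1.1 *ᵥ P.f = P.f ∧ ∀ i, A.1.1 *ᵥ t i = t' i := by
  obtain ⟨A, hA⟩ := CfsgLib.Classical.HermFrames.exists_move_tuple C (pair_indep P ht hp)
    (pair_indep P ht' hp') (by
      rintro (i | i) (j | j)
      · exact h i j
      · fin_cases j
        · exact (hp i).1.trans (hp' i).1.symm
        · exact (hp i).2.trans (hp' i).2.symm
      · fin_cases i
        · exact (C.form_swap_zero (hp j).1).trans (C.form_swap_zero (hp' j).1).symm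
        · exact (C.form_swap_zero (hp j).2).trans (C.form_swap_zero (hp' j).2).symm
      · rfl)
  exact ⟨A, hA (.inr 0), hA (.inr 1), fun i => hA (.inl i)⟩

/-- Correcting the determinant along an anisotropic vector. -/
theorem exists_su_of_gu (A : ↥(Cfsg.GU n F q)) {v : V} (hv : C.form v v ≠ 0) :
    ∃ g : ↥(Cfsg.SU n F q), ∀ x, C.form (A.1.1 *ᵥ x) v = 0 → g.1.1 *ᵥ x = A.1.1 *ᵥ x := by
  set d := A.1.1.det with hd
  have hdd : d * C.bar d = 1 := C.mem_unitOne.1 (C.detHom A).2
  have hd0 : d ≠ 0 := left_ne_zero_of_mul_eq_one hdd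
  set c := (d⁻¹ - 1) / C.form v v with hc
  have hdet : (C.rmap v v c).det = d⁻¹ := by
    rw [C.det_rmap, hc, div_mul_cancel₀ _ hv]; ring
  have hiso : ∀ x y, C.form (C.rmap v v c *ᵥ x) (C.rmap v v c *ᵥ y) = C.form x y := by
    intro x y
    simp only [C.rmap_mulVec, C.form_add_left, C.form_add_right, C.form_smul_left, C.form_smul_right,
      map_mul, C.bar_form]
    have hb : C.bar c = (d - 1) / C.form v v := by
      rw [hc, map_div₀, map_sub, map_inv₀, map_one, C.form_self_fixed,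
        show C.bar d = d⁻¹ from eq_inv_of_mul_eq_one_right hdd, inv_inv]
    have key : c + C.bar c + c * C.bar c * C.form v v = 0 := by
      rw [hb, hc]; field_simp; ring
    linear_combination (C.form x v * C.form v y) * key
  refine ⟨C.mkSU (C.rmap v v c * A.1.1) (by rw [Matrix.det_mul, hdet, ← hd, inv_mul_cancel₀ hd0])
    (fun x y => by rw [← Matrix.mulVec_mulVec, ← Matrix.mulVec_mulVec, hiso, C.mem_gu_iff.1 A.2]),
    fun x hx => ?_⟩
  show (C.rmap v v c * A.1.1) *ᵥ x = _
  rw [← Matrix.mulVec_mulVec, C.rmap_mulVec, hx, mul_zero, zero_smul, add_zero]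

theorem exists_aniso_orth {k : ℕ} {t : Fin k → V} (ht : LinearIndependent F t)
    (hp : ∀ i, t i ∈ P.perp)
    (hk : 2 * k < n - 2 ∨ (2 * k ≤ n - 2 ∧ ∃ i j, C.form (t i) (t j) ≠ 0)) :
    ∃ v ∈ P.perp, C.form v v ≠ 0 ∧ ∀ i, C.form v (t i) = 0 := by
  by_contra hcon
  simp only [not_exists, not_and] at hcon
  let L : V →ₗ[F] (Fin k ⊕ Fin 2 → F) :=
    { toFun := fun x a => C.form x (Sum.elim t ![P.e, P.f] a)
      map_add' := fun x y => funext fun a => C.form_add_left x y _
      map_smul' := fun c x => funext fun a => C.form_smul_left c x _ }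
  have hmem : ∀ x, x ∈ LinearMap.ker L ↔ x ∈ P.perp ∧ ∀ i, C.form x (t i) = 0 := fun x => by
    rw [LinearMap.mem_ker]
    constructor
    · exact fun h => ⟨⟨congrFun h (.inr 0), congrFun h (.inr 1)⟩, fun i => congrFun h (.inl i)⟩
    · rintro ⟨h1, h2⟩
      funext a
      rcases a with i | j
      · exact h2 i
      · fin_cases j
        · exact h1.1
        · exact h1.2
  have hiso : ∀ x ∈ LinearMap.ker L, C.form x x = 0 := fun x hx => by
    by_contra h
    obtain ⟨i, hi⟩ := not_forall.1 (hcon x ((hmem x).1 hx).1 h)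
    exact hi (((hmem x).1 hx).2 i)
  have horth : ∀ x ∈ LinearMap.ker L, ∀ y ∈ LinearMap.ker L, C.form x y = 0 := by
    intro x hx y hy
    by_contra hne
    obtain ⟨d, -, hd⟩ := C.exists_trace_ne_zero
    have h1 := hiso _ (Submodule.add_mem _ (Submodule.smul_mem _ (d / C.form x y) hx) hy)
    simp only [C.form_add_left, C.form_add_right, C.form_smul_left, C.form_smul_right, hiso x hx,
      hiso y hy] at h1
    rw [← C.bar_form x y, ← map_mul, div_mul_cancel₀ _ hne] at h1
    exact hd (by linear_combination h1)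
  have hspan : LinearMap.ker L ≤ Submodule.span F (Set.range t) := by
    intro x hx
    have h1 : x ∈ Submodule.span F (Set.range (Sum.elim t ![P.e, P.f])) :=
      mem_span_of_orth (C := C) (pair_indep P ht hp) fun z hz =>
        horth z (LinearMap.mem_ker.2 (funext hz)) x hx
    rw [Submodule.mem_span_range_iff_exists_fun] at h1
    obtain ⟨c, hc⟩ := h1
    rw [Fintype.sum_sum_type, Fin.sum_univ_two] at hc
    simp only [Sum.elim_inl, Sum.elim_inr, Matrix.cons_val_zero, Matrix.cons_val_one] at hc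
    have e1 := congrArg (fun z => C.form z P.f) hc
    have e2 := congrArg (fun z => C.form z P.e) hc
    simp [C.form_add_left, C.form_sum_left, C.form_smul_left, P.ef, P.ff, P.ee, P.fe,
      fun i => (hp i).1, fun i => (hp i).2, ((hmem x).1 hx).1.1, ((hmem x).1 hx).1.2] at e1 e2
    rw [e1, e2, zero_smul, zero_smul, add_zero, add_zero] at hc
    exact (Submodule.mem_span_range_iff_exists_fun F).2 ⟨_, hc⟩
  have hK := LinearMap.finrank_range_add_finrank_ker L
  have hR : finrank F (LinearMap.range L) ≤ k + 2 := by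
    refine le_trans (Submodule.finrank_le _) (le_of_eq ?_)
    simp
  have hS : finrank F (Submodule.span F (Set.range t)) = k := by
    rw [finrank_span_eq_card ht, Fintype.card_fin]
  have hle := Submodule.finrank_mono hspan
  rw [finrank_fin_fun] at hK
  rcases hk with hk | ⟨hk, i, j, hij⟩
  · omega
  · have heq := Submodule.eq_of_le_of_finrank_le hspan (by omega)
    exact hij (horth _ (heq ▸ Submodule.subset_span ⟨i, rfl⟩) _ (heq ▸ Submodule.subset_span ⟨j, rfl⟩))

/-- An element of the special unitary group fixing the pair and moving a tuple. -/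
theorem exists_su_perp {k : ℕ} {t t' : Fin k → V} (ht : LinearIndependent F t)
    (ht' : LinearIndependent F t') (hp : ∀ i, t i ∈ P.perp) (hp' : ∀ i, t' i ∈ P.perp)
    (h : ∀ i j, C.form (t i) (t j) = C.form (t' i) (t' j))
    (hk : 2 * k < n - 2 ∨ (2 * k ≤ n - 2 ∧ ∃ i j, C.form (t i) (t j) ≠ 0)) :
    ∃ g : ↥(Cfsg.SU n F q), P.Diag g 1 ∧ ∀ i, g.1.1 *ᵥ t i = t' i := by
  obtain ⟨A, hAe, hAf, hAt⟩ := exists_gu_perp P ht ht' hp hp' h
  obtain ⟨v, hv, hv0, hvt⟩ := exists_aniso_orth P ht' hp'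
    (hk.imp_right fun ⟨h1, i, j, hij⟩ => ⟨h1, i, j, by rwa [← h]⟩)
  obtain ⟨g, hg⟩ := exists_su_of_gu A hv0
  refine ⟨g, ⟨?_, ?_⟩, fun i => ?_⟩
  · rw [hg _ (by rw [hAe]; exact C.form_swap_zero hv.1), hAe, one_smul]
  · rw [hg _ (by rw [hAf]; exact C.form_swap_zero hv.2), hAf, map_one, inv_one, one_smul]
  · rw [hg _ (by rw [hAt]; exact C.form_swap_zero (hvt i)), hAt]

/-- A totally isotropic plane of the orthogonal of the pair is moved to any other one. -/
theorem exists_su_plane {t t' : Fin 2 → V} (ht : LinearIndependent F t) (ht' : LinearIndependent F t')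
    (hp : ∀ i, t i ∈ P.perp) (hp' : ∀ i, t' i ∈ P.perp) (h0 : ∀ i j, C.form (t i) (t j) = 0)
    (h0' : ∀ i j, C.form (t' i) (t' j) = 0) :
    ∃ (g : ↥(Cfsg.SU n F q)) (l : F), P.Diag g 1 ∧ l ≠ 0 ∧ g.1.1 *ᵥ t 0 = l • t' 0 ∧
      g.1.1 *ᵥ t 1 = t' 1 := by
  obtain ⟨A, hAe, hAf, hAt⟩ := exists_gu_perp P ht ht' hp hp' fun i j => by rw [h0, h0']
  obtain ⟨x, hx⟩ := exists_forms (C := C) (pair_indep P ht' hp') (Pi.single (Sum.inl 0) 1)
  have hx0 : C.form (t' 0) x = 1 := by
    rw [← C.bar_form, show C.form x (t' 0) = 1 by simpa using hx (.inl 0), map_one]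
  obtain ⟨κ, hκ1, hκ2⟩ := C.exists_partner (h0' 0 0) hx0
  let R : UPair C n := ⟨t' 0, x + κ • t' 0, h0' 0 0, hκ1, hκ2⟩
  have hxe : C.form x P.e = 0 := by simpa using hx (.inr 0)
  have hxf : C.form x P.f = 0 := by simpa using hx (.inr 1)
  have hx1 : C.form x (t' 1) = 0 := by simpa using hx (.inl 1)
  set d := A.1.1.det with hd
  have hdd : d * C.bar d = 1 := C.mem_unitOne.1 (C.detHom A).2
  -- a scalar with the required argument
  obtain ⟨l, hl0, hl⟩ : ∃ l : F, l ≠ 0 ∧ l / C.bar l = d⁻¹ := by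
    by_cases hd1 : d = -1
    · obtain ⟨δ, hδ0, hδ⟩ := C.exists_trace_zero
      exact ⟨δ, hδ0, by rw [bar_zset (C := C) hδ, div_neg, div_self hδ0, hd1, inv_neg, inv_one]⟩
    · have hne : 1 + d⁻¹ ≠ 0 := fun h => hd1 (by
        rw [← inv_inv d, show d⁻¹ = -1 by linear_combination h, inv_neg, inv_one])
      refine ⟨1 + d⁻¹, hne, ?_⟩
      have hb : C.bar d = d⁻¹ := eq_inv_of_mul_eq_one_right hdd
      rw [map_add, map_one, map_inv₀, hb, inv_inv, div_eq_iff (fun h => hd1 (by linear_combination h))]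
      rw [mul_add, mul_one, inv_mul_cancel₀ (left_ne_zero_of_mul_eq_one hdd)]
      ring
  have hdet : (R.torus l hl0).1.1.det = d⁻¹ := by
    show (C.rmap R.e R.f (l - 1) * C.rmap R.f R.e ((C.bar l)⁻¹ - 1)).det = _
    rw [Matrix.det_mul, C.det_rmap, C.det_rmap, R.ef, R.fe, ← hl, div_eq_mul_inv]
    ring
  let g : ↥(Cfsg.SU n F q) := C.mkSU ((R.torus l hl0).1.1 * A.1.1)
    (by rw [Matrix.det_mul, hdet, ← hd, inv_mul_cancel₀ (left_ne_zero_of_mul_eq_one hdd)])
    (fun a b => by
      rw [← Matrix.mulVec_mulVec, ← Matrix.mulVec_mulVec, C.mem_gu_iff.1 (R.torus l hl0).2,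
        C.mem_gu_iff.1 A.2])
  have hg : ∀ y, g.1.1 *ᵥ y = (R.torus l hl0).1.1 *ᵥ (A.1.1 *ᵥ y) := fun y => by
    show ((R.torus l hl0).1.1 * A.1.1) *ᵥ y = _
    rw [Matrix.mulVec_mulVec]
  have hfix : ∀ y, C.form y (t' 0) = 0 → C.form y x = 0 → (R.torus l hl0).1.1 *ᵥ y = y := by
    intro y h1 h2
    rw [R.torus_mulVec]
    simp [R, C.form_add_right, C.form_smul_right, h1, h2]
  refine ⟨g, l, ⟨?_, ?_⟩, hl0, ?_, ?_⟩
  · rw [hg, hAe, hfix _ (C.form_swap_zero (hp' 0).1) (C.form_swap_zero hxe), one_smul]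
  · rw [hg, hAf, hfix _ (C.form_swap_zero (hp' 0).2) (C.form_swap_zero hxf), map_one, inv_one, one_smul]
  · rw [hg, hAt, R.torus_mulVec, show C.form (t' 0) R.f = 1 from R.ef,
      show C.form (t' 0) R.e = 0 from R.ee]
    show t' 0 + ((l - 1) * 1) • t' 0 + _ • R.f = _
    rw [mul_zero, zero_smul, add_zero, mul_one, sub_smul, one_smul, add_sub_cancel]
  · rw [hg, hAt, hfix _ (h0' 1 0) (C.form_swap_zero hx1)]

/-- Levi elements exist for every non-zero fixed scalar. -/
theorem exists_levi (hn : 3 ≤ n) {c : F} (hc : C.bar c = c) (hc0 : c ≠ 0) :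
    ∃ (g : ↥(Cfsg.SU n F q)) (l : F), P.Diag g l ∧ l * C.bar l = c := by
  obtain ⟨l, hl⟩ := C.exists_norm hc
  obtain ⟨u, hu, huu, -⟩ := P.exists_basis
  let i : Fin (n - 2) := ⟨0, by omega⟩
  obtain ⟨g, hg, -⟩ := P.exists_diag (hu i) (by rw [huu, if_pos rfl])
    (left_ne_zero_of_mul (a := l) (b := C.bar l) (by rw [hl]; exact hc0))
  exact ⟨g, l, hg, hl⟩

end CfsgLib.PGroup.UnitIndex
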