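import Cfsg.Agent.Lib.Classical.HermIsoCount
import Cfsg.Agent.Lib.PGroup.UnitIndex.Basic

/-!
Counting vectors and pairs of vectors in the orthogonal of a hyperbolic pair.
-/

set_option autoImplicit false
set_option linter.unusedSectionVars false

namespace CfsgLib.PGroup.UnitIndex

open Matrix Module CfsgLib.SU CfsgLib.Classical CfsgLib.Classical.HermIsoCount

variable {F : Type*} [Field F] [Fintype F] {q : ℕ} {C : UCtx F q} {n : ℕ} (P : UPair C n)

local notation "V" => (Fin n → F)

/-- Coordinates on the orthogonal of the pair. -/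
theorem exists_coord : ∃ φ : (Fin (n - 2) → F) →ₗ[F] V, (∀ c, φ c ∈ P.perp) ∧ Function.Injective φ ∧
    (∀ w ∈ P.perp, ∃ c, φ c = w) ∧ ∀ a b, C.form (φ a) (φ b) = C.form a b := by
  obtain ⟨u, hu, huu, hub⟩ := P.exists_basis
  let φ : (Fin (n - 2) → F) →ₗ[F] V := ∑ i, (LinearMap.proj i).smulRight (u i)
  have hφ : ∀ c, φ c = ∑ i, c i • u i := fun c => by simp [φ]
  have hform : ∀ a b, C.form (φ a) (φ b) = C.form a b := fun a b => by
    rw [hφ, C.form_sum_left]
    refine Finset.sum_congr rfl fun i _ => ?_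
    rw [C.form_smul_left, hφ, ← C.bar_form (∑ j, _) (u i), C.form_sum_left, map_sum]
    simp [C.form_smul_left, huu, apply_ite C.bar]
  refine ⟨φ, fun c => ?_, ?_, fun w hw => ⟨fun i => C.form w (u i), by rw [hφ]; exact (hub w hw).symm⟩, hform⟩
  · rw [hφ]; exact P.perp.sum_mem fun i _ => P.perp.smul_mem _ (hu i)
  · refine (injective_iff_map_eq_zero φ).2 fun c hc => C.eq_zero_of_form fun b => ?_
    rw [← hform, hc, C.form_zero_left]

theorem natCard_perp : Nat.card P.perp = Fintype.card F ^ (n - 2) := by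
  obtain ⟨φ, hφ, hinj, hsurj, -⟩ := exists_coord P
  rw [← Nat.card_congr (Equiv.ofBijective (fun c => (⟨φ c, hφ c⟩ : P.perp))
    ⟨fun a b h => hinj (congrArg Subtype.val h), fun w => by
      obtain ⟨c, hc⟩ := hsurj w.1 w.2; exact ⟨c, Subtype.ext hc⟩⟩)]
  simp [Nat.card_eq_fintype_card]

/-- The vectors of given norm. -/
def sph (c : F) : Set V := {w | w ∈ P.perp ∧ C.form w w = c}

/-- The vectors with given products with a vector and themselves. -/
def slice (a : V) (β γ : F) : Set V := {b | b ∈ P.perp ∧ C.form b a = β ∧ C.form b b = γ}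

theorem sph_ncard (c : F) : (sph P c).ncard = hcount C (n - 2) c := by
  obtain ⟨φ, hφ, hinj, hsurj, hform⟩ := exists_coord P
  rw [← Nat.card_coe_set_eq]
  refine (Nat.card_congr (Equiv.ofBijective (fun v : {v : Fin (n - 2) → F // C.form v v = c} =>
    (⟨φ v.1, hφ _, by rw [hform, v.2]⟩ : ↥(sph P c))) ⟨fun a b h => Subtype.ext (hinj (congrArg Subtype.val h)),
      fun w => ?_⟩)).symm
  obtain ⟨v, hv⟩ := hsurj w.1 w.2.1
  exact ⟨⟨v, by rw [← hform, hv, w.2.2]⟩, Subtype.ext hv⟩

theorem hcount_bound (hF : Fintype.card F = q ^ 2) (m : ℕ) {c : F} (hc : C.bar c = c) :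
    q ^ (2 * m + 1) ≤ hcount C (m + 1) c + q ^ (m + 1) := by
  have hq : (1 : ℤ) ≤ q := by exact_mod_cast (two_le_q hF).trans' one_le_two
  obtain ⟨h0, h1⟩ := hcount_closed C hF m
  have hp : (q : ℤ) ^ m ≤ (q : ℤ) ^ (m + 1) := pow_le_pow_right₀ hq (Nat.le_succ m)
  have hp0 : (0 : ℤ) ≤ (q : ℤ) ^ m := by positivity
  zify
  rcases eq_or_ne c 0 with rfl | hc0
  · rw [h0]
    rcases neg_one_pow_eq_or ℤ (m + 1) with h | h <;> rw [h] <;> linarith
  · rw [hcount_scale C _ hc hc0, h1]
    rcases neg_one_pow_eq_or ℤ (m + 1) with h | h <;> rw [h] <;> linarith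

theorem sph_lower (hF : Fintype.card F = q ^ 2) (hn : 3 ≤ n) {c : F} (hc : C.bar c = c) :
    q ^ (2 * (n - 2) - 1) ≤ (sph P c).ncard + q ^ (n - 2) := by
  obtain ⟨m, hm⟩ : ∃ m, n - 2 = m + 1 := ⟨n - 3, by omega⟩
  rw [sph_ncard, hm, show 2 * (m + 1) - 1 = 2 * m + 1 by omega]
  exact hcount_bound hF m hc

theorem slice_lower_aniso (hF : Fintype.card F = q ^ 2) (hn : 4 ≤ n) {a : V} (ha : a ∈ P.perp)
    (haa : C.form a a ≠ 0) (β : F) {γ : F} (hγ : C.bar γ = γ) :
    q ^ (2 * (n - 2) - 3) ≤ (slice P a β γ).ncard + q ^ (n - 2 - 1) := by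
  classical
  obtain ⟨φ, hφ, hinj, hsurj, hform⟩ := exists_coord P
  obtain ⟨m, hm⟩ : ∃ m, n - 2 = m + 2 := ⟨n - 4, by omega⟩
  let e : Fin (n - 2) ≃ Fin (m + 2) := finCongr hm
  let tr : (Fin (m + 2) → F) →ₗ[F] (Fin (n - 2) → F) := LinearMap.funLeft F F e
  have htr : ∀ a b, C.form (tr a) (tr b) = C.form a b := fun a b => by
    show ∑ i, a (e i) * C.bar (b (e i)) = ∑ i, a i * C.bar (b i)
    exact e.sum_comp (fun i => a i * C.bar (b i))
  obtain ⟨s, hs⟩ := C.exists_norm (C.form_self_fixed a)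
  have hs0 : s ≠ 0 := fun h => haa (by rw [← hs, h, zero_mul])
  set v0 : Fin (m + 2) → F := Fin.cons s 0 with hv0
  have hv00 : C.form v0 v0 = C.form a a := by
    rw [hv0, form_cons, C.form_zero_left, add_zero, hs]
  have hli1 : LinearIndependent F ![φ (tr v0)] := linearIndependent_unique_iff.2 (by
    intro h
    apply haa
    rw [← hv00, ← htr, ← hform, show φ (tr v0) = 0 from h, C.form_zero_left])
  have hli2 : LinearIndependent F ![a] := linearIndependent_unique_iff.2 (fun h => haa (by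
    rw [show a = 0 from h, C.form_zero_left]))
  obtain ⟨A, hAe, hAf, hA⟩ := exists_gu_perp P hli1 hli2 (fun i => by fin_cases i; exact hφ _)
    (fun i => by fin_cases i; exact ha)
    (fun i j => by fin_cases i; fin_cases j; simp [hform, htr, hv00])
  have hAv : A.1.1 *ᵥ φ (tr v0) = a := hA 0
  set β' := β / C.bar s with hβ'
  let f : {w : Fin (m + 1) → F // C.form w w = γ - β' * C.bar β'} → ↥(slice P a β γ) := fun w =>
    ⟨A.1.1 *ᵥ φ (tr (Fin.cons β' w.1)),
      ⟨by rw [← hAe, C.mem_gu_iff.1 A.2]; exact (hφ _).1, by rw [← hAf, C.mem_gu_iff.1 A.2]; exact (hφ _).2⟩,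
      by rw [← hAv, C.mem_gu_iff.1 A.2, hform, htr, hv0, form_cons, C.form_zero_right, add_zero,
        hβ', div_mul_cancel₀ _ (by simpa using hs0)],
      by rw [C.mem_gu_iff.1 A.2, hform, htr, form_cons, w.2]; ring⟩
  have hf : Function.Injective f := fun w w' h => by
    have h1 := Matrix.mulVec_injective_iff_isUnit.2 A.1.isUnit (congrArg Subtype.val h)
    have h2 := LinearMap.funLeft_injective_of_surjective F F e e.surjective (hinj h1)
    exact Subtype.ext (Fin.cons_right_injective _ h2)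
  have h1 := Nat.card_le_card_of_injective f hf
  rw [Nat.card_coe_set_eq] at h1
  have h2 := hcount_bound (C := C) hF m (c := γ - β' * C.bar β') (by rw [map_sub, hγ, C.norm_fixed])
  rw [hm, show 2 * (m + 2) - 3 = 2 * m + 1 by omega, show m + 2 - 1 = m + 1 by omega]
  exact h2.trans (Nat.add_le_add_right h1 _)

theorem slice_lower_iso (hF : Fintype.card F = q ^ 2) (hn : 4 ≤ n) {a : V} (ha : a ∈ P.perp)
    (ha0 : a ≠ 0) (haa : C.form a a = 0) {β : F} (hβ : β ≠ 0) {γ : F} (hγ : C.bar γ = γ) :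
    q ^ (2 * (n - 2) - 3) ≤ (slice P a β γ).ncard := by
  classical
  obtain ⟨φ, hφ, hinj, hsurj, hform⟩ := exists_coord P
  obtain ⟨m, hm⟩ : ∃ m, n - 2 = m + 2 := ⟨n - 4, by omega⟩
  let e : Fin (n - 2) ≃ Fin (m + 2) := finCongr hm
  let tr : (Fin (m + 2) → F) →ₗ[F] (Fin (n - 2) → F) := LinearMap.funLeft F F e
  have htr : ∀ a b, C.form (tr a) (tr b) = C.form a b := fun a b => by
    show ∑ i, a (e i) * C.bar (b (e i)) = ∑ i, a i * C.bar (b i)
    exact e.sum_comp (fun i => a i * C.bar (b i))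
  obtain ⟨z, hz⟩ := C.exists_norm (c := (-1 : F)) (by rw [map_neg, map_one])
  have hz0 : z ≠ 0 := fun h => by rw [h, zero_mul] at hz; exact one_ne_zero (α := F) (by linear_combination hz)
  have hbz : C.bar z ≠ 0 := by simpa using hz0
  set v0 : Fin (m + 2) → F := Fin.cons 1 (Fin.cons z 0) with hv0
  have hv00 : C.form v0 v0 = 0 := by
    rw [hv0, form_cons, form_cons, C.form_zero_left, hz, map_one]; ring
  have hv0ne : v0 ≠ 0 := fun h => one_ne_zero (α := F) (by
    have := congrFun h 0; simpa [hv0] using this)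
  have hli1 : LinearIndependent F ![φ (tr v0)] := linearIndependent_unique_iff.2
    (fun h => hv0ne ((injective_iff_map_eq_zero tr).1
      (LinearMap.funLeft_injective_of_surjective F F e e.surjective) _
      ((injective_iff_map_eq_zero φ).1 hinj _ h)))
  have hli2 : LinearIndependent F ![a] := linearIndependent_unique_iff.2 (fun h => ha0 h)
  obtain ⟨A, hAe, hAf, hA⟩ := exists_gu_perp P hli1 hli2 (fun i => by fin_cases i; exact hφ _)
    (fun i => by fin_cases i; exact ha)
    (fun i j => by fin_cases i; fin_cases j; simp [hform, htr, hv00, haa])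
  have hAv : A.1.1 *ᵥ φ (tr v0) = a := hA 0
  -- a base solution of the norm equation for every tail
  have hsol : ∀ r : Fin m → F, ∃ y : F,
      (β - y * C.bar z) * C.bar (β - y * C.bar z) + (y * C.bar y + C.form r r) = γ := by
    intro r
    obtain ⟨x, hx⟩ := C.exists_trace (c := β * C.bar β + C.form r r - γ)
      (by rw [map_sub, map_add, C.norm_fixed, C.form_self_fixed, hγ])
    refine ⟨x / (C.bar β * C.bar z), ?_⟩
    have hbb : C.bar β ≠ 0 := by simpa using hβ
    have hy : x / (C.bar β * C.bar z) * C.bar z = x / C.bar β := by field_simp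
    have hyy : x / (C.bar β * C.bar z) * C.bar (x / (C.bar β * C.bar z)) =
        -(x / C.bar β * C.bar (x / C.bar β)) := by
      simp only [map_div₀, map_mul, C.bar_bar]
      rw [div_mul_div_comm, div_mul_div_comm,
        show C.bar β * C.bar z * (β * z) = -(C.bar β * β) by linear_combination (C.bar β * β) * hz,
        div_neg]
    rw [hy, hyy, map_sub, map_div₀, C.bar_bar]
    have h1 : β * (C.bar x / β) = C.bar x := mul_div_cancel₀ _ hβ
    have h2 : C.bar β * (x / C.bar β) = x := mul_div_cancel₀ _ hbb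
    linear_combination -hx - h1 - h2
  choose y hy using hsol
  let yy : zset C × (Fin m → F) → F := fun p => y p.2 + p.1.1 / (C.bar β * C.bar z)
  let f : zset C × (Fin m → F) → ↥(slice P a β γ) := fun p =>
    ⟨A.1.1 *ᵥ φ (tr (Fin.cons (β - yy p * C.bar z) (Fin.cons (yy p) p.2))),
      ⟨by rw [← hAe, C.mem_gu_iff.1 A.2]; exact (hφ _).1, by rw [← hAf, C.mem_gu_iff.1 A.2]; exact (hφ _).2⟩,
      by rw [← hAv, C.mem_gu_iff.1 A.2, hform, htr, hv0, form_cons, form_cons,
        C.form_zero_right, map_one]; ring,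
      by
        rw [C.mem_gu_iff.1 A.2, hform, htr, form_cons, form_cons]
        have h1 := hy p.2
        set s := p.1.1 / (C.bar β * C.bar z) with hs
        have h2 : C.bar β * (s * C.bar z) = p.1.1 := by
          have hbb : C.bar β ≠ 0 := by simpa using hβ
          rw [hs]; field_simp
        have h3 := congrArg C.bar h2
        simp only [map_mul, C.bar_bar, bar_zset p.1.2] at h3
        show (β - (y p.2 + s) * C.bar z) * C.bar (β - (y p.2 + s) * C.bar z) +
          ((y p.2 + s) * C.bar (y p.2 + s) + C.form p.2 p.2) = γ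
        simp only [map_sub, map_add, map_mul, C.bar_bar] at h1 ⊢
        linear_combination h1 - h2 - h3 +
          ((y p.2 + s) * (C.bar (y p.2) + C.bar s) - y p.2 * C.bar (y p.2)) * hz⟩
  have hf : Function.Injective f := fun p p' h => by
    have h1 := Matrix.mulVec_injective_iff_isUnit.2 A.1.isUnit (congrArg Subtype.val h)
    have h2 := LinearMap.funLeft_injective_of_surjective F F e e.surjective (hinj h1)
    have h3 := congrArg Fin.tail h2
    rw [Fin.tail_cons, Fin.tail_cons] at h3
    have hr : p.2 = p'.2 := by have := congrArg Fin.tail h3; rwa [Fin.tail_cons, Fin.tail_cons] at this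
    have h4 : yy p = yy p' := by have := congrFun h3 0; rwa [Fin.cons_zero, Fin.cons_zero] at this
    simp only [yy, hr, add_right_inj] at h4
    have hbb : C.bar β * C.bar z ≠ 0 := mul_ne_zero (by simpa using hβ) hbz
    exact Prod.ext (Subtype.ext ((div_left_inj' hbb).1 h4)) hr
  have h1 := Nat.card_le_card_of_injective f hf
  rw [Nat.card_coe_set_eq, Nat.card_prod, card_zset hF, Nat.card_fun, Nat.card_eq_fintype_card (α := F),
    hF, Nat.card_eq_fintype_card (α := Fin m), Fintype.card_fin, ← pow_mul, ← pow_succ'] at h1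
  rwa [hm, show 2 * (m + 2) - 3 = 2 * m + 1 by omega]

/-- Ordered independent pairs spanning totally isotropic planes. -/
def isoPairs : Set (Fin 2 → V) :=
  {t | (∀ i, t i ∈ P.perp) ∧ LinearIndependent F t ∧ ∀ i j, C.form (t i) (t j) = 0}

theorem isoPairs_ncard (hn : 4 ≤ n) :
    (isoPairs P).ncard = isoCount C (n - 2) * (Fintype.card F * isoCount C (n - 4)) := by
  obtain ⟨φ, hφ, hinj, hsurj, hform⟩ := exists_coord P
  have hker : LinearMap.ker φ = ⊥ := LinearMap.ker_eq_bot.2 hinj
  have hcard : (isoPairs P).ncard = Nat.card (Frame C 2 (n - 2)) := by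
    rw [← Nat.card_coe_set_eq]
    refine (Nat.card_congr (Equiv.ofBijective (fun t : Frame C 2 (n - 2) =>
      (⟨φ ∘ t.1, fun i => hφ _, t.2.1.map' φ hker, fun i j => by
        rw [Function.comp_apply, Function.comp_apply, hform, t.2.2]⟩ : ↥(isoPairs P)))
      ⟨fun a b h => Subtype.ext (funext fun i => hinj (congrFun (congrArg Subtype.val h) i)), fun t => ?_⟩)).symm
    choose c hc using fun i => hsurj (t.1 i) (t.2.1 i)
    have he : φ ∘ c = t.1 := funext hc
    exact ⟨⟨c, LinearIndependent.of_comp φ (he ▸ t.2.2.1), fun i j => by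
      rw [← hform, hc, hc, t.2.2.2]⟩, Subtype.ext he⟩
  rw [hcard, card_frame_succ C (r := n - 4) (show n - 2 = 2 * 1 + (n - 4) by omega),
    card_frame_succ C (r := n - 2) (show n - 2 = 2 * 0 + (n - 2) by omega), card_frame_zero, pow_zero, pow_one]
  ring

end CfsgLib.PGroup.UnitIndex
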