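import Cfsg.Agent.Lib.PGroup.UnitIndex.Orbits

/-!
In a small action every point is either fixed by the transvections at `e`, or has a trivial
stabiliser in the Eichler group at `e`.
-/

set_option autoImplicit false
set_option linter.unusedSectionVars false

namespace CfsgLib.PGroup.UnitIndex

open Matrix Module CfsgLib.SU CfsgLib.Classical CfsgLib.Classical.HermIsoCount

theorem small_pow {q : ℕ} (hq : 3 ≤ q) (i a b : ℕ) (h : i + a ≤ b) : 3 ^ i * q ^ a ≤ q ^ b :=
  (Nat.mul_le_mul_right _ (Nat.pow_le_pow_left hq i)).trans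
    (by rw [← pow_add]; exact Nat.pow_le_pow_right (by omega) h)

theorem isoCount_bounds {F : Type*} [Field F] [Fintype F] {q : ℕ} (C : UCtx F q)
    (hF : Fintype.card F = q ^ 2) (r : ℕ) :
    q ^ (2 * r + 1) ≤ isoCount C (r + 1) + q ^ (r + 1) + 1 ∧
      isoCount C (r + 1) ≤ q ^ (2 * r + 1) + q ^ (r + 1) := by
  have h := isoCount_eq C hF r
  have hq : (1 : ℤ) ≤ q := by exact_mod_cast (two_le_q hF).trans' one_le_two
  have hp : (q : ℤ) ^ r ≤ (q : ℤ) ^ (r + 1) := pow_le_pow_right₀ hq (Nat.le_succ r)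
  have hp0 : (1 : ℤ) ≤ (q : ℤ) ^ r := one_le_pow₀ hq
  constructor <;> zify <;> rw [h] <;>
    rcases neg_one_pow_eq_or ℤ (r + 1) with h' | h' <;> rw [h'] <;> linarith

/-- Numerical form of the bound on pairs inside totally isotropic planes. -/
theorem arith_ts {F : Type*} [Field F] [Fintype F] {q : ℕ} (C : UCtx F q)
    (hF : Fintype.card F = q ^ 2) (hq : 3 ≤ q) {n : ℕ} (hn : 6 ≤ n) :
    (q ^ (n - 2) - 1) * (q ^ (n - 2) - q ^ 2) * isoCount C n ≤
      isoCount C (n - 2) * (q ^ 2 * isoCount C (n - 4)) * q ^ (n - 2 + 1) * (q ^ 2 - 1) := by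
  obtain ⟨k, rfl⟩ : ∃ k, n = k + 6 := ⟨n - 6, by omega⟩
  rcases Nat.eq_zero_or_pos k with rfl | hk
  · have h4 := isoCount_eq C hF 3
    have h2 := isoCount_eq C hF 1
    have h6 := isoCount_eq C hF 5
    have e1 : 1 ≤ q ^ 2 := Nat.one_le_pow _ _ (by omega)
    have e4 : q ^ 2 ≤ q ^ 4 := Nat.pow_le_pow_right (by omega) (by omega)
    show (q ^ 4 - 1) * (q ^ 4 - q ^ 2) * isoCount C 6 ≤
      isoCount C 4 * (q ^ 2 * isoCount C 2) * q ^ 5 * (q ^ 2 - 1)
    zify [e1, e4, le_trans e1 e4]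
    norm_num at h2 h4 h6
    rw [h2, h4, h6]
    have hQ : (3 : ℤ) ≤ q := by exact_mod_cast hq
    generalize (q : ℤ) = Q at hQ ⊢
    have key : (Q ^ 4 + Q ^ 2 + 1) * (Q ^ 5 + 1) ≤ Q ^ 9 + Q ^ 8 + Q ^ 6 + Q ^ 5 := by
      have a1 : Q ^ 7 ≤ Q ^ 8 := pow_le_pow_right₀ (by linarith) (by norm_num)
      have a2 : 3 * Q ^ 4 ≤ Q ^ 6 := by
        nlinarith [mul_le_mul_of_nonneg_right (show (3 : ℤ) ≤ Q ^ 2 by nlinarith)
          (pow_nonneg (show (0 : ℤ) ≤ Q by linarith) 4)]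
      have a3 : Q ^ 2 ≤ Q ^ 4 := pow_le_pow_right₀ (by linarith) (by norm_num)
      have a4 : (1 : ℤ) ≤ Q ^ 4 := one_le_pow₀ (by linarith)
      nlinarith
    have h0 : (0 : ℤ) ≤ (Q ^ 4 - 1) * (Q ^ 2 * ((Q ^ 2 - 1) * (Q ^ 2 - 1))) := by
      have b1 : (1 : ℤ) ≤ Q ^ 4 := one_le_pow₀ (by linarith)
      have b2 : (1 : ℤ) ≤ Q ^ 2 := one_le_pow₀ (by linarith)
      positivity
    calc _ = (Q ^ 4 - 1) * (Q ^ 2 * ((Q ^ 2 - 1) * (Q ^ 2 - 1))) * ((Q ^ 4 + Q ^ 2 + 1) * (Q ^ 5 + 1)) := by ring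
      _ ≤ (Q ^ 4 - 1) * (Q ^ 2 * ((Q ^ 2 - 1) * (Q ^ 2 - 1))) * (Q ^ 9 + Q ^ 8 + Q ^ 6 + Q ^ 5) :=
        mul_le_mul_of_nonneg_left key h0
      _ = _ := by ring
  · obtain ⟨j, rfl⟩ : ∃ j, k = j + 1 := ⟨k - 1, by omega⟩
    simp only [show j + 1 + 6 - 2 = j + 5 by omega, show j + 1 + 6 - 4 = j + 3 by omega,
      show j + 1 + 6 = j + 7 by omega, show j + 5 + 1 = j + 6 by omega]
    have ha := (isoCount_bounds C hF (j + 4)).1
    have hb := (isoCount_bounds C hF (j + 2)).1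
    have hc := (isoCount_bounds C hF (j + 6)).2
    simp only [show 2 * (j + 4) + 1 = 2 * j + 9 by omega, show 2 * (j + 2) + 1 = 2 * j + 5 by omega,
      show 2 * (j + 6) + 1 = 2 * j + 13 by omega, show j + 4 + 1 = j + 5 by omega,
      show j + 2 + 1 = j + 3 by omega, show j + 6 + 1 = j + 7 by omega] at ha hb hc
    have p1 : 81 * q ^ (j + 5) ≤ q ^ (2 * j + 9) := small_pow hq 4 _ _ (by omega)
    have p2 : 9 * q ^ (j + 3) ≤ q ^ (2 * j + 5) := small_pow hq 2 _ _ (by omega)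
    have p3 : 729 * q ^ (j + 7) ≤ q ^ (2 * j + 13) := small_pow hq 6 _ _ (by omega)
    have o1 : 1 ≤ q ^ (j + 5) := Nat.one_le_pow _ _ (by omega)
    have o2 : 1 ≤ q ^ (j + 3) := Nat.one_le_pow _ _ (by omega)
    have A : 79 * q ^ (2 * j + 9) ≤ 81 * isoCount C (j + 5) := by linarith
    have B : 7 * q ^ (2 * j + 5) ≤ 9 * isoCount C (j + 3) := by linarith
    have Cc : 729 * isoCount C (j + 7) ≤ 730 * q ^ (2 * j + 13) := by linarith
    have D : 8 * q ^ 2 ≤ 9 * (q ^ 2 - 1) := by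
      have : 3 ^ 2 ≤ q ^ 2 := Nat.pow_le_pow_left hq 2
      omega
    refine Nat.le_of_mul_le_mul_left (c := 729 * 81 * 9 * 9) ?_ (by norm_num)
    calc 729 * 81 * 9 * 9 * ((q ^ (j + 5) - 1) * (q ^ (j + 5) - q ^ 2) * isoCount C (j + 7))
        ≤ 729 * 81 * 9 * 9 * (q ^ (j + 5) * q ^ (j + 5) * isoCount C (j + 7)) :=
          Nat.mul_le_mul_left _ (Nat.mul_le_mul_right _ (Nat.mul_le_mul (Nat.sub_le _ _) (Nat.sub_le _ _)))
      _ = 81 * 9 * 9 * (q ^ (j + 5) * q ^ (j + 5)) * (729 * isoCount C (j + 7)) := by ring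
      _ ≤ 81 * 9 * 9 * (q ^ (j + 5) * q ^ (j + 5)) * (730 * q ^ (2 * j + 13)) := Nat.mul_le_mul_left _ Cc
      _ = 81 * 9 * 9 * 730 * q ^ (4 * j + 23) := by ring
      _ ≤ 729 * (79 * 7 * 8) * (q * q ^ (4 * j + 23)) := by
          calc 81 * 9 * 9 * 730 * q ^ (4 * j + 23) ≤ 729 * (79 * 7 * 8) * 3 * q ^ (4 * j + 23) :=
                Nat.mul_le_mul_right _ (by norm_num)
            _ ≤ 729 * (79 * 7 * 8) * q * q ^ (4 * j + 23) :=
                Nat.mul_le_mul_right _ (Nat.mul_le_mul_left _ hq)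
            _ = _ := by ring
      _ = 729 * ((79 * q ^ (2 * j + 9)) * (q ^ 2 * (7 * q ^ (2 * j + 5))) * q ^ (j + 6) * (8 * q ^ 2)) *
            1 / q ^ j := by
          rw [mul_one]
          refine (Nat.div_eq_of_eq_mul_left (pow_pos (by omega) j) ?_).symm
          ring
      _ ≤ 729 * ((79 * q ^ (2 * j + 9)) * (q ^ 2 * (7 * q ^ (2 * j + 5))) * q ^ (j + 6) * (8 * q ^ 2)) := by
          rw [mul_one]; exact Nat.div_le_self _ _
      _ ≤ 729 * ((81 * isoCount C (j + 5)) * (q ^ 2 * (9 * isoCount C (j + 3))) * q ^ (j + 6) * (9 * (q ^ 2 - 1))) :=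
          Nat.mul_le_mul_left _ (Nat.mul_le_mul (Nat.mul_le_mul_right _ (Nat.mul_le_mul A (Nat.mul_le_mul_left _ B))) D)
      _ = _ := by ring

variable {F : Type*} [Field F] [Fintype F] {q : ℕ} {C : UCtx F q} {n : ℕ} (P : UPair C n)

local notation "V" => (Fin n → F)

theorem ts_finrank {M : Submodule F V} (hM : M ≤ P.perp) (hts : ∀ x ∈ M, ∀ y ∈ M, C.form x y = 0) :
    2 * finrank F M ≤ n - 2 := by
  let b := Module.finBasis F M
  set t : Fin (finrank F M) → V := fun i => (b i : V) with ht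
  have hli : LinearIndependent F t := b.linearIndependent.map' M.subtype M.ker_subtype
  let L : V →ₗ[F] (Fin (finrank F M) ⊕ Fin 2 → F) :=
    { toFun := fun x a => C.form x (Sum.elim t ![P.e, P.f] a)
      map_add' := fun x y => funext fun a => C.form_add_left x y _
      map_smul' := fun c x => funext fun a => C.form_smul_left c x _ }
  have hK : M ≤ LinearMap.ker L := fun x hx => LinearMap.mem_ker.2 (funext fun a => by
    rcases a with i | j
    · exact hts x hx _ (b i).2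
    · fin_cases j
      · exact (hM hx).1
      · exact (hM hx).2)
  have hsurj : LinearMap.range L = ⊤ := LinearMap.range_eq_top.2 fun c => by
    obtain ⟨x, hx⟩ := exists_forms (C := C) (pair_indep P hli fun i => hM (b i).2) c
    exact ⟨x, funext hx⟩
  have h1 := LinearMap.finrank_range_add_finrank_ker L
  rw [hsurj, finrank_top, finrank_fin_fun, Module.finrank_fintype_fun_eq_card] at h1
  simp only [Fintype.card_sum, Fintype.card_fin] at h1
  have h2 := Submodule.finrank_mono hK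
  omega

theorem ncard_pairs_le (M : Submodule F V) :
    {t : Fin 2 → V | LinearIndependent F t ∧ ∀ i, t i ∈ M}.ncard ≤
      (Nat.card M - 1) * (Nat.card M - Fintype.card F) := by
  classical
  haveI : Fintype V := Fintype.ofFinite _
  have hset : {t : Fin 2 → V | LinearIndependent F t ∧ ∀ i, t i ∈ M}.ncard ≤
      ({x : V | x ∈ M ∧ x ≠ 0}.toFinset.sigma fun x =>
        {y : V | y ∈ M ∧ y ∉ Submodule.span F {x}}.toFinset).card := by
    rw [← Set.ncard_coe_finset]
    refine Set.ncard_le_ncard_of_injOn (fun t => ⟨t 0, t 1⟩) ?_ ?_ (Set.toFinite _)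
    · rintro t ⟨hli, hM⟩
      simp only [Finset.coe_sigma, Set.mem_sigma_iff, Finset.mem_coe, Set.mem_toFinset]
      refine ⟨⟨hM 0, hli.ne_zero 0⟩, hM 1, fun h => ?_⟩
      obtain ⟨c, hc⟩ := Submodule.mem_span_singleton.1 h
      have := Fintype.linearIndependent_iff.1 hli ![c, -1]
        (by simp [Fin.sum_univ_two, hc]) 1
      simp at this
    · intro s _ t _ h
      simp only [Sigma.mk.injEq, heq_eq_eq] at h
      funext i; fin_cases i
      · exact h.1
      · exact h.2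
  refine hset.trans ?_
  rw [Finset.card_sigma]
  refine (Finset.sum_le_card_nsmul _ _ (Nat.card M - Fintype.card F) fun x hx => ?_).trans (le_of_eq ?_)
  · obtain ⟨hxM, hx0⟩ := Set.mem_toFinset.1 hx
    rw [← Set.ncard_eq_toFinset_card', show {y : V | y ∈ M ∧ y ∉ Submodule.span F {x}} =
      (M : Set V) \ (Submodule.span F {x} : Set V) from rfl, Set.ncard_sdiff
      (SetLike.coe_subset_coe.2 ((Submodule.span_singleton_le_iff_mem _ _).2 hxM))]
    have h1 : ((Submodule.span F {x}) : Set V).ncard = Fintype.card F := by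
      rw [← Nat.card_coe_set_eq]
      show Nat.card (Submodule.span F {x}) = _
      rw [Module.natCard_eq_pow_finrank (K := F), finrank_span_singleton hx0, pow_one, Nat.card_eq_fintype_card]
    rw [h1, ← Nat.card_coe_set_eq]
    rfl
  · rw [smul_eq_mul, ← Set.ncard_eq_toFinset_card', show {x : V | x ∈ M ∧ x ≠ 0} = (M : Set V) \ {0} from rfl,
      Set.ncard_sdiff_singleton_of_mem (show (0 : V) ∈ (M : Set V) from M.zero_mem), ← Nat.card_coe_set_eq]
    rfl

variable {X : Type*} [MulAction ↥(Cfsg.SU n F q) X]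

/-- Tuples moved with the stabilisers are counted by the stabilisers of the fibre. -/
theorem tuples_bound {τ : Type*} [Finite τ] {y : X} {μ : F} (mem : τ → AddSubgroup V → Prop) (T : Set τ)
    (hT : ∀ t ∈ T, ∃ S ∈ fibre P y μ, mem t S) (B : ℕ)
    (hB : ∀ S ∈ fibre P y μ, {t | mem t S}.ncard ≤ B) : T.ncard ≤ (fibre P y μ).ncard * B := by
  classical
  haveI : Fintype τ := Fintype.ofFinite _
  haveI : Finite (AddSubgroup V) :=
    Finite.of_injective (fun H : AddSubgroup V => (H : Set V)) SetLike.coe_injective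
  have hfin : (fibre P y μ).Finite := Set.toFinite _
  have hsub : T.toFinset ⊆ hfin.toFinset.biUnion fun S => {t | mem t S}.toFinset := fun t ht => by
    obtain ⟨S, hS, htS⟩ := hT t (Set.mem_toFinset.1 ht)
    exact Finset.mem_biUnion.2 ⟨S, hfin.mem_toFinset.2 hS, Set.mem_toFinset.2 htS⟩
  have h1 := Finset.card_le_card hsub
  rw [← Set.ncard_eq_toFinset_card'] at h1
  refine h1.trans (Finset.card_biUnion_le.trans ?_)
  rw [Set.ncard_eq_toFinset_card (fibre P y μ) hfin, ← smul_eq_mul]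
  exact Finset.sum_le_card_nsmul _ _ _ fun S hS => by
    rw [← Set.ncard_eq_toFinset_card']
    exact hB S (hfin.mem_toFinset.1 hS)

/-- Pairs inside a group with a given non-zero product. -/
theorem ncard_gram_pairs_le (S : AddSubgroup V) {β : F} (hβ : β ≠ 0) :
    2 * {p : V × V | p.1 ∈ S ∧ p.2 ∈ S ∧ C.form p.2 p.1 = β}.ncard ≤ Nat.card S * Nat.card S := by
  classical
  haveI : Fintype V := Fintype.ofFinite _
  set Sf := (S : Set V).toFinset with hSf
  have hS : Sf.card = Nat.card S := by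
    rw [hSf, ← Set.ncard_eq_toFinset_card', ← Nat.card_coe_set_eq]; rfl
  have hrow : ∀ a ∈ Sf, 2 * (Sf.filter fun b => C.form b a = β).card ≤ Sf.card := by
    intro a _
    rcases (Sf.filter fun b => C.form b a = β).eq_empty_or_nonempty with h | ⟨b₀, hb₀⟩
    · rw [h, Finset.card_empty, mul_zero]; exact Nat.zero_le _
    · obtain ⟨hb₀S, hb₀β⟩ := Finset.mem_filter.1 hb₀
      have h1 : (Sf.filter fun b => C.form b a = β).card ≤ (Sf.filter fun b => C.form b a = 0).card :=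
        Finset.card_le_card_of_injOn (fun b => b - b₀) (fun b hb => by
          obtain ⟨hbS, hbβ⟩ := Finset.mem_filter.1 hb
          refine Finset.mem_filter.2 ⟨Set.mem_toFinset.2
            (S.sub_mem (Set.mem_toFinset.1 hbS) (Set.mem_toFinset.1 hb₀S)), ?_⟩
          rw [C.form_sub_left, hbβ, hb₀β, sub_self]) (fun b _ c _ h => by simpa using h)
      have h2 : Disjoint (Sf.filter fun b => C.form b a = β) (Sf.filter fun b => C.form b a = 0) :=
        Finset.disjoint_filter.2 fun b _ hb hb0 => hβ (hb.symm.trans hb0)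
      have h3 := Finset.card_le_card (show (Sf.filter fun b => C.form b a = β) ∪
        (Sf.filter fun b => C.form b a = 0) ⊆ Sf from Finset.union_subset (Finset.filter_subset _ _) (Finset.filter_subset _ _))
      rw [Finset.card_union_of_disjoint h2] at h3
      omega
  have hle : {p : V × V | p.1 ∈ S ∧ p.2 ∈ S ∧ C.form p.2 p.1 = β}.ncard ≤
      (Sf.sigma fun a => Sf.filter fun b => C.form b a = β).card := by
    rw [← Set.ncard_coe_finset]
    refine Set.ncard_le_ncard_of_injOn (fun p => ⟨p.1, p.2⟩) ?_ ?_ (Set.toFinite _)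
    · rintro p ⟨h1, h2, h3⟩
      simp only [Finset.coe_sigma, Set.mem_sigma_iff, Finset.mem_coe, Finset.mem_filter, hSf, Set.mem_toFinset]
      exact ⟨h1, h2, h3⟩
    · intro a _ b _ h
      simp only [Sigma.mk.injEq, heq_eq_eq] at h
      exact Prod.ext h.1 h.2
  refine (Nat.mul_le_mul_left 2 hle).trans ?_
  rw [Finset.card_sigma, Finset.mul_sum]
  refine (Finset.sum_le_card_nsmul _ _ _ hrow).trans (le_of_eq ?_)
  rw [smul_eq_mul, hS]

theorem mem_fibre_levi {y : X} {μ : F} (hμ : μ ∈ ann P y) {g : ↥(Cfsg.SU n F q)} (hg : P.Diag g 1)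
    {w : V} (hw : w ∈ wstab P y) : g.1.1 *ᵥ w ∈ wstab P (g • y) := by
  have := wstab_levi_le P hg hw
  rwa [map_one, one_smul] at this

variable (hF : Fintype.card F = q ^ 2) (hq : 3 ≤ q) (hn : 6 ≤ n) [Finite X]
  (hsmall : Nat.card X * (q ^ 2 - 1) < isoCount C n)

include hF hq hn hsmall

theorem small_upper : Nat.card X * (q ^ 2 - 1) < q ^ (2 * (n - 2) + 3) + q ^ (n - 2 + 2) := by
  have h := (isoCount_bounds C hF (n - 1)).2
  rw [show n - 1 + 1 = n by omega, show 2 * (n - 1) + 1 = 2 * (n - 2) + 3 by omega] at h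
  rw [show n - 2 + 2 = n by omega]
  omega

/-- The basic inequality for a moved point. -/
theorem fibre_bound {y : X} {μ : F} (hμ : μ ∈ ann P y) (hμ0 : μ ≠ 0) :
    q ^ (2 * (n - 2) + 1) * (fibre P y μ).ncard ≤ Nat.card X * Nat.card (wstab P y) ∧
      Nat.card (wstab P y) ≤ q ^ (n - 2) := by
  have h1 := data_bound P hF (by omega) (y := y) hμ.1 hμ0
  have hW : Nat.card P.perp = q ^ (2 * (n - 2)) := by rw [natCard_perp, hF, ← pow_mul]
  refine ⟨?_, ?_⟩
  · refine Nat.le_of_mul_le_mul_left (c := q - 1) ?_ (by omega)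
    rw [hW, ← pow_succ'] at h1
    refine h1.trans (Nat.mul_le_mul_right _ ?_)
    have : 0 < Nat.card (zfix P y) := Nat.card_pos
    omega
  · have h2 := wstab_sq_le P hμ hμ0
    rw [hW, show 2 * (n - 2) = (n - 2) + (n - 2) by omega, pow_add] at h2
    exact Nat.mul_self_le_mul_self_iff.1 h2

theorem no_line {y : X} {μ : F} (hμ : μ ∈ ann P y) (hμ0 : μ ≠ 0) {a : V} (ha : a ∈ wstab P y) (ha0 : a ≠ 0)
    (hline : ∀ w ∈ wstab P y, ∃ c : F, w = c • a) : False := by
  classical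
  obtain ⟨h1, -⟩ := fibre_bound P hF hq hn hsmall hμ hμ0
  have hcard : Nat.card (wstab P y) ≤ q ^ 2 := by
    choose c hc using hline
    rw [← hF, ← Nat.card_eq_fintype_card]
    exact Nat.card_le_card_of_injective (fun w : wstab P y => c w.1 w.2) fun u v h =>
      Subtype.ext (by rw [hc u.1 u.2, hc v.1 v.2]; exact congrArg (· • a) h)
  have hT : ∀ x ∈ sph P (C.form a a) \ {0}, ∃ S ∈ fibre P y μ, x ∈ S ∧ Nat.card S ≤ q ^ 2 := by
    rintro x ⟨⟨hx, hxx⟩, hx0⟩
    obtain ⟨g, hg, hga⟩ := exists_su_perp P (t := ![a]) (t' := ![x]) (linearIndependent_unique_iff.2 ha0)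
      (linearIndependent_unique_iff.2 hx0) (fun i => by fin_cases i; exact wstab_le P ha)
      (fun i => by fin_cases i; exact hx) (fun i j => by fin_cases i; fin_cases j; exact hxx.symm)
      (Or.inl (by omega))
    refine ⟨_, exists_smul_mem_fibre P hμ hg, ?_, by rw [card_wstab_levi P hg]; exact hcard⟩
    have := mem_fibre_levi P hμ hg ha
    rwa [show g.1.1 *ᵥ a = x from hga 0] at this
  have h2 := tuples_bound P (fun x S => x ∈ S ∧ Nat.card S ≤ q ^ 2) (sph P (C.form a a) \ {0}) hT (q ^ 2)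
    fun S _ => by
      by_cases hS : Nat.card S ≤ q ^ 2
      · refine le_trans (Set.ncard_le_ncard (fun x hx => hx.1) (Set.toFinite _)) ?_
        rwa [← Nat.card_coe_set_eq]
      · refine le_trans (le_of_eq ((Set.ncard_eq_zero (Set.toFinite _)).2
          (Set.eq_empty_iff_forall_notMem.2 fun t ht => hS ht.2))) (Nat.zero_le _)
  have h3 := sph_lower P hF (by omega) (C.form_self_fixed a)
  have h4 := Set.le_ncard_sdiff ({0} : Set V) (sph P (C.form a a)) (Set.toFinite _)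
  rw [Set.ncard_singleton] at h4
  have h5 := small_upper hF hq hn hsmall
  obtain ⟨k, rfl⟩ : ∃ k, n = k + 6 := ⟨n - 6, by omega⟩
  simp only [show k + 6 - 2 = k + 4 by omega, show 2 * (k + 4) + 1 = 2 * k + 9 by omega,
    show 2 * (k + 4) - 1 = 2 * k + 7 by omega, show 2 * (k + 4) + 3 = 2 * k + 11 by omega,
    show k + 4 + 2 = k + 6 by omega] at h1 h3 h5
  have p1 : 27 * q ^ (k + 4) ≤ q ^ (2 * k + 7) := small_pow hq 3 _ _ (by omega)
  have p2 : q ^ (k + 6) ≤ q ^ (2 * k + 11) := Nat.pow_le_pow_right (by omega) (by omega)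
  have p3 : 1 ≤ q ^ (k + 4) := Nat.one_le_pow _ _ (by omega)
  have hT1 : 25 * q ^ (2 * k + 7) ≤ 27 * ((fibre P y μ).ncard * q ^ 2) := by omega
  have h6 : 25 * q ^ (2 * k + 7) * q ^ (2 * k + 9) * (q ^ 2 - 1) ≤ 27 * (2 * q ^ (2 * k + 11)) * (q ^ 2 * q ^ 2) := by
    calc 25 * q ^ (2 * k + 7) * q ^ (2 * k + 9) * (q ^ 2 - 1)
        ≤ 27 * ((fibre P y μ).ncard * q ^ 2) * q ^ (2 * k + 9) * (q ^ 2 - 1) :=
          Nat.mul_le_mul_right _ (Nat.mul_le_mul_right _ hT1)
      _ = 27 * q ^ 2 * (q ^ 2 - 1) * (q ^ (2 * k + 9) * (fibre P y μ).ncard) := by ring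
      _ ≤ 27 * q ^ 2 * (q ^ 2 - 1) * (Nat.card X * Nat.card (wstab P y)) := Nat.mul_le_mul_left _ h1
      _ ≤ 27 * q ^ 2 * (q ^ 2 - 1) * (Nat.card X * q ^ 2) := Nat.mul_le_mul_left _ (Nat.mul_le_mul_left _ hcard)
      _ = 27 * (Nat.card X * (q ^ 2 - 1)) * (q ^ 2 * q ^ 2) := by ring
      _ ≤ _ := Nat.mul_le_mul_right _ (Nat.mul_le_mul_left _ (by omega))
  have h7 : 25 * (8 * 27) * q ^ (4 * k + 15) * q ^ 3 ≤ 27 * 2 * 9 * q ^ (4 * k + 15) * 1 := by
    have h8 : 8 * q ^ 2 ≤ 9 * (q ^ 2 - 1) := by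
      have : 3 ^ 2 ≤ q ^ 2 := Nat.pow_le_pow_left hq 2
      omega
    have h9 : 27 * q ^ (2 * k + 15) ≤ q ^ (4 * k + 18) := small_pow hq 3 _ _ (by omega)
    have h10 : 27 * (25 * q ^ (2 * k + 7) * q ^ (2 * k + 9) * (8 * q ^ 2)) ≤
        27 * (27 * (2 * q ^ (2 * k + 11)) * (q ^ 2 * q ^ 2)) * 9 := by
      calc 27 * (25 * q ^ (2 * k + 7) * q ^ (2 * k + 9) * (8 * q ^ 2))
          ≤ 27 * (25 * q ^ (2 * k + 7) * q ^ (2 * k + 9) * (9 * (q ^ 2 - 1))) :=
            Nat.mul_le_mul_left _ (Nat.mul_le_mul_left _ h8)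
        _ = 27 * (25 * q ^ (2 * k + 7) * q ^ (2 * k + 9) * (q ^ 2 - 1)) * 9 := by ring
        _ ≤ _ := Nat.mul_le_mul_right _ (Nat.mul_le_mul_left _ h6)
    have e1 : 27 * (25 * q ^ (2 * k + 7) * q ^ (2 * k + 9) * (8 * q ^ 2)) = 25 * (8 * 27) * q ^ (4 * k + 18) := by ring
    have e2 : 27 * (27 * (2 * q ^ (2 * k + 11)) * (q ^ 2 * q ^ 2)) * 9 = 27 * 2 * 9 * (27 * q ^ (2 * k + 15)) := by ring
    rw [e1, e2] at h10
    have h11 := h10.trans (Nat.mul_le_mul_left _ h9)
    have : 0 < q ^ (4 * k + 18) := pow_pos (by omega) _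
    omega
  have : 27 ≤ q ^ 3 := Nat.pow_le_pow_left hq 3
  have h12 : 0 < q ^ (4 * k + 15) := pow_pos (by omega) _
  nlinarith

theorem no_gram {y : X} {μ : F} (hμ : μ ∈ ann P y) (hμ0 : μ ≠ 0) {a b : V} (ha : a ∈ wstab P y)
    (hb : b ∈ wstab P y) (hli : LinearIndependent F ![a, b]) (hab : C.form b a ≠ 0) : False := by
  classical
  haveI : Fintype V := Fintype.ofFinite _
  obtain ⟨h1, hcard⟩ := fibre_bound P hF hq hn hsmall hμ hμ0
  set α := C.form a a with hα
  set β := C.form b a with hβ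
  set γ := C.form b b with hγ
  have ha0 : a ≠ 0 := hli.ne_zero 0
  let T : Finset (Σ _ : V, V) := (sph P α \ {0}).toFinset.sigma fun x =>
    (slice P x β γ \ {(β / α) • x}).toFinset
  set s := Nat.card (wstab P y) with hs
  let T' : Set (V × V) := {p | (p.1 ∈ sph P α ∧ p.1 ≠ 0) ∧ p.2 ∈ slice P p.1 β γ ∧ p.2 ≠ (β / α) • p.1}
  have hT : ∀ p ∈ T', ∃ S ∈ fibre P y μ,
      (p.1 ∈ S ∧ p.2 ∈ S ∧ C.form p.2 p.1 = β) ∧ Nat.card S = s := by
    rintro ⟨x, z⟩ ⟨⟨⟨hx, hxx⟩, hx0⟩, ⟨hz, hzx, hzz⟩, hzne⟩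
    have hli' : LinearIndependent F ![x, z] := by
      rw [linearIndependent_fin2]
      refine ⟨?_, fun c hc => ?_⟩
      · intro h
        apply hab
        rw [← hzx, show z = 0 from h, C.form_zero_left]
      · simp only [Matrix.cons_val_one, Matrix.cons_val_zero] at hc
        by_cases hc0 : c = 0
        · rw [hc0, zero_smul] at hc; exact hx0 hc.symm
        · have hzc : z = c⁻¹ • x := by rw [← hc, smul_smul, inv_mul_cancel₀ hc0, one_smul]
          have h5 : β = c⁻¹ * α := by rw [← hzx, hzc, C.form_smul_left, hxx]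
          have hα0 : α ≠ 0 := fun h => hab (by rw [h5, h, mul_zero])
          exact hzne (show z = (β / α) • x by rw [h5, mul_div_cancel_right₀ _ hα0, ← hzc])
    obtain ⟨g, hg, hgt⟩ := exists_su_perp P hli hli'
      (fun i => by fin_cases i <;> [exact wstab_le P ha; exact wstab_le P hb])
      (fun i => by fin_cases i <;> [exact hx; exact hz]) (fun i j => by
        fin_cases i <;> fin_cases j
        · exact hxx.symm
        · show C.form a b = C.form x z
          rw [← C.bar_form, ← hβ, ← hzx, C.bar_form]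
        · exact hzx.symm
        · exact hzz.symm)
      (Or.inr ⟨by omega, 1, 0, hab⟩)
    refine ⟨_, exists_smul_mem_fibre P hμ hg, ⟨?_, ?_, hzx⟩, card_wstab_levi P hg y⟩
    · have := mem_fibre_levi P hμ hg ha
      rwa [show g.1.1 *ᵥ a = x from hgt 0] at this
    · have := mem_fibre_levi P hμ hg hb
      rwa [show g.1.1 *ᵥ b = z from hgt 1] at this
  have h2 := tuples_bound P (fun (p : V × V) S => (p.1 ∈ S ∧ p.2 ∈ S ∧ C.form p.2 p.1 = β) ∧ Nat.card S = s)
    T' hT (s * s / 2) fun S _ => by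
      by_cases hS : Nat.card S = s
      · refine le_trans (Set.ncard_le_ncard (fun p hp => hp.1) (Set.toFinite _)) ?_
        rw [Nat.le_div_iff_mul_le two_pos, mul_comm, ← hS]
        exact ncard_gram_pairs_le S hab
      · refine le_trans (le_of_eq ((Set.ncard_eq_zero (Set.toFinite _)).2
          (Set.eq_empty_iff_forall_notMem.2 fun t ht => hS ht.2))) (Nat.zero_le _)
  have hTc : T.card ≤ T'.ncard := by
    rw [← Set.ncard_coe_finset]
    refine Set.ncard_le_ncard_of_injOn (fun p => (p.1, p.2)) ?_ ?_ (Set.toFinite _)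
    · intro p hp
      simp only [T, Finset.coe_sigma, Set.mem_sigma_iff, Finset.mem_coe, Set.mem_toFinset, Set.mem_sdiff,
        Set.mem_singleton_iff] at hp
      exact hp
    · intro p _ r _ h
      exact Sigma.ext (congrArg Prod.fst h) (heq_of_eq (congrArg Prod.snd h))
  have h3 := sph_lower P hF (by omega) (C.form_self_fixed a)
  have h4 := Set.le_ncard_sdiff ({0} : Set V) (sph P α) (Set.toFinite _)
  rw [Set.ncard_singleton] at h4
  have hrow : ∀ x ∈ (sph P α \ {0}).toFinset,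
      q ^ (2 * (n - 2) - 3) - (q ^ (n - 2 - 1) + 1) ≤ (slice P x β γ \ {(β / α) • x}).toFinset.card := by
    intro x hx
    obtain ⟨⟨hx, hxx⟩, hx0⟩ := Set.mem_toFinset.1 hx
    rw [← Set.ncard_eq_toFinset_card']
    have h5 := Set.le_ncard_sdiff ({(β / α) • x} : Set V) (slice P x β γ) (Set.toFinite _)
    rw [Set.ncard_singleton] at h5
    by_cases hα0 : α = 0
    · have h6 := slice_lower_iso P hF (by omega) hx (fun h => hx0 (by rw [h]; rfl)) (hxx.trans hα0) hab
        (C.form_self_fixed b)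
      rw [← hγ] at h6
      omega
    · have h6 := slice_lower_aniso P hF (by omega) hx (by rw [hxx]; exact hα0) β (C.form_self_fixed b)
      rw [← hγ] at h6
      omega
  have h5 := Finset.card_nsmul_le_sum _ _ _ hrow
  rw [← Finset.card_sigma, smul_eq_mul, ← Set.ncard_eq_toFinset_card'] at h5
  have h6 : 2 * ((sph P α \ {0}).ncard * (q ^ (2 * (n - 2) - 3) - (q ^ (n - 2 - 1) + 1))) ≤
      (fibre P y μ).ncard * (s * s) := by
    refine (Nat.mul_le_mul_left 2 (h5.trans (hTc.trans h2))).trans ?_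
    rw [mul_left_comm]
    exact Nat.mul_le_mul_left _ (Nat.mul_div_le _ _)
  have h7 := small_upper hF hq hn hsmall
  rw [← hα] at h3
  obtain ⟨k, rfl⟩ : ∃ k, n = k + 6 := ⟨n - 6, by omega⟩
  simp only [show k + 6 - 2 = k + 4 by omega, show 2 * (k + 4) + 1 = 2 * k + 9 by omega,
    show 2 * (k + 4) - 1 = 2 * k + 7 by omega, show 2 * (k + 4) + 3 = 2 * k + 11 by omega,
    show 2 * (k + 4) - 3 = 2 * k + 5 by omega, show k + 4 - 1 = k + 3 by omega,
    show k + 4 + 2 = k + 6 by omega] at h1 h3 h6 h7 hcard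
  have p1 : 27 * q ^ (k + 4) ≤ q ^ (2 * k + 7) := small_pow hq 3 _ _ (by omega)
  have p2 : 9 * q ^ (k + 3) ≤ q ^ (2 * k + 5) := small_pow hq 2 _ _ (by omega)
  have p3 : 243 * q ^ (k + 6) ≤ q ^ (2 * k + 11) := small_pow hq 5 _ _ (by omega)
  have o1 : 1 ≤ q ^ (k + 4) := Nat.one_le_pow _ _ (by omega)
  have o2 : 1 ≤ q ^ (k + 3) := Nat.one_le_pow _ _ (by omega)
  have hA : 25 * q ^ (2 * k + 7) ≤ 27 * (sph P α \ {0}).ncard := by omega
  have hB : 7 * q ^ (2 * k + 5) ≤ 9 * (q ^ (2 * k + 5) - (q ^ (k + 3) + 1)) := by omega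
  have hD : 8 * q ^ 2 ≤ 9 * (q ^ 2 - 1) := by
    have : 3 ^ 2 ≤ q ^ 2 := Nat.pow_le_pow_left hq 2
    omega
  have hU : 243 * (Nat.card X * (q ^ 2 - 1)) ≤ 244 * q ^ (2 * k + 11) := by omega
  have hs3 : s * s * s ≤ q ^ (k + 4) * q ^ (k + 4) * q ^ (k + 4) :=
    Nat.mul_le_mul (Nat.mul_le_mul hcard hcard) hcard
  have hfin : 243 * (2 * (25 * q ^ (2 * k + 7)) * (7 * q ^ (2 * k + 5)) * q ^ (2 * k + 9) * (8 * q ^ 2)) ≤
      27 * 9 * 9 * (244 * q ^ (2 * k + 11) * (q ^ (k + 4) * q ^ (k + 4) * q ^ (k + 4))) := by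
    set A := (sph P α \ {0}).ncard
    set B := q ^ (2 * k + 5) - (q ^ (k + 3) + 1)
    calc 243 * (2 * (25 * q ^ (2 * k + 7)) * (7 * q ^ (2 * k + 5)) * q ^ (2 * k + 9) * (8 * q ^ 2))
        ≤ 243 * (2 * (27 * A) * (9 * B) * q ^ (2 * k + 9) * (9 * (q ^ 2 - 1))) := by
          refine Nat.mul_le_mul_left _ ?_
          exact Nat.mul_le_mul (Nat.mul_le_mul_right _ (Nat.mul_le_mul (Nat.mul_le_mul_left _ hA) hB)) hD
      _ = 243 * 27 * 9 * 9 * (q ^ 2 - 1) * (2 * (A * B) * q ^ (2 * k + 9)) := by ring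
      _ ≤ 243 * 27 * 9 * 9 * (q ^ 2 - 1) * ((fibre P y μ).ncard * (s * s) * q ^ (2 * k + 9)) :=
          Nat.mul_le_mul_left _ (Nat.mul_le_mul_right _ h6)
      _ = 243 * 27 * 9 * 9 * (q ^ 2 - 1) * (s * s) * (q ^ (2 * k + 9) * (fibre P y μ).ncard) := by ring
      _ ≤ 243 * 27 * 9 * 9 * (q ^ 2 - 1) * (s * s) * (Nat.card X * s) := Nat.mul_le_mul_left _ h1
      _ = 27 * 9 * 9 * ((243 * (Nat.card X * (q ^ 2 - 1))) * (s * s * s)) := by ring
      _ ≤ _ := Nat.mul_le_mul_left _ (Nat.mul_le_mul hU hs3)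
  have e1 : 243 * (2 * (25 * q ^ (2 * k + 7)) * (7 * q ^ (2 * k + 5)) * q ^ (2 * k + 9) * (8 * q ^ 2)) =
      243 * 2800 * q ^ k * q ^ (5 * k + 23) := by ring
  have e2 : 27 * 9 * 9 * (244 * q ^ (2 * k + 11) * (q ^ (k + 4) * q ^ (k + 4) * q ^ (k + 4))) =
      243 * 2196 * 1 * q ^ (5 * k + 23) := by ring
  rw [e1, e2] at hfin
  have h8 := Nat.le_of_mul_le_mul_right hfin (pow_pos (show 0 < q by omega) _)
  have : 1 ≤ q ^ k := Nat.one_le_pow _ _ (by omega)
  omega

theorem no_iso_plane {y : X} {μ : F} (hμ : μ ∈ ann P y) (hμ0 : μ ≠ 0) {a b : V} (ha : a ∈ wstab P y)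
    (hb : b ∈ wstab P y) (hli : LinearIndependent F ![a, b])
    (h0 : ∀ u ∈ wstab P y, ∀ v ∈ wstab P y, C.form u v = 0) : False := by
  classical
  obtain ⟨h1, hcard⟩ := fibre_bound P hF hq hn hsmall hμ hμ0
  have hperp : ∀ S ∈ fibre P y μ, ∀ x ∈ Submodule.span F (S : Set V), x ∈ P.perp := by
    rintro S ⟨g, l, -, rfl, -⟩ x hx
    exact (Submodule.span_le.2 fun v hv => wstab_le P hv) hx
  have hT : ∀ t ∈ isoPairs P, ∃ S ∈ fibre P y μ,
      (∀ i, t i ∈ Submodule.span F (S : Set V)) ∧ LinearIndependent F t ∧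
        (∀ u ∈ S, ∀ v ∈ S, C.form u v = 0) := by
    rintro t ⟨htp, htli, ht0⟩
    have hab : ∀ i, ![a, b] i ∈ wstab P y := fun i => by fin_cases i <;> [exact ha; exact hb]
    obtain ⟨g, l, hg, hl0, hg0, hg1⟩ := exists_su_plane P hli htli (fun i => wstab_le P (hab i)) htp
      (fun i j => h0 _ (hab i) _ (hab j)) ht0
    refine ⟨_, exists_smul_mem_fibre P hμ hg, fun i => ?_, htli, fun u hu v hv => ?_⟩
    · fin_cases i
      · have h := Submodule.smul_mem (Submodule.span F (wstab P (g • y) : Set V)) l⁻¹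
          (Submodule.subset_span (mem_fibre_levi P hμ hg ha))
        rwa [show g.1.1 *ᵥ a = l • t 0 from hg0, smul_smul, inv_mul_cancel₀ hl0, one_smul] at h
      · have h := Submodule.subset_span (R := F) (mem_fibre_levi P hμ hg hb)
        rwa [show g.1.1 *ᵥ b = t 1 from hg1] at h
    · have hu' := wstab_levi_le P (diag_inv P hg) hu
      have hv' := wstab_levi_le P (diag_inv P hg) hv
      rw [inv_smul_smul] at hu' hv'
      have := h0 _ hu' _ hv'
      rwa [inv_one, map_one, one_smul, one_smul, C.form_su] at this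
  have h2 := tuples_bound P (fun (t : Fin 2 → V) S => (∀ i, t i ∈ Submodule.span F (S : Set V)) ∧
      LinearIndependent F t ∧ (∀ u ∈ S, ∀ v ∈ S, C.form u v = 0)) (isoPairs P) hT
    ((q ^ (n - 2) - 1) * (q ^ (n - 2) - q ^ 2)) fun S hS => by
      by_cases hiso : ∀ u ∈ S, ∀ v ∈ S, C.form u v = 0
      · set M := Submodule.span F (S : Set V) with hM
        refine le_trans (Set.ncard_le_ncard (fun t ht => show t ∈ {t : Fin 2 → V |
          LinearIndependent F t ∧ ∀ i, t i ∈ M} from ⟨ht.2.1, ht.1⟩) (Set.toFinite _)) ?_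
        refine le_trans (ncard_pairs_le M) ?_
        have hts : ∀ x ∈ M, ∀ z ∈ M, C.form x z = 0 := by
          intro x hx z hz
          induction hx using Submodule.span_induction with
          | zero => exact C.form_zero_left _
          | add u v _ _ h h' => rw [C.form_add_left, h, h', add_zero]
          | smul c u _ h => rw [C.form_smul_left, h, mul_zero]
          | mem u hu =>
            induction hz using Submodule.span_induction with
            | zero => exact C.form_zero_right _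
            | add v w _ _ h h' => rw [C.form_add_right, h, h', add_zero]
            | smul c v _ h => rw [C.form_smul_right, h, mul_zero]
            | mem v hv => exact hiso u hu v hv
        have hdim := ts_finrank P (fun x hx => hperp S hS x hx) hts
        have hle : Nat.card M ≤ q ^ (n - 2) := by
          rw [Module.natCard_eq_pow_finrank (K := F), Nat.card_eq_fintype_card, hF, ← pow_mul]
          exact Nat.pow_le_pow_right (by omega) hdim
        rw [hF]
        exact Nat.mul_le_mul (Nat.sub_le_sub_right hle _) (Nat.sub_le_sub_right hle _)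
      · refine le_trans (le_of_eq ((Set.ncard_eq_zero (Set.toFinite _)).2
          (Set.eq_empty_iff_forall_notMem.2 fun t ht => hiso ht.2.2))) (Nat.zero_le _)
  rw [isoPairs_ncard P (by omega), hF] at h2
  have h3 : q ^ (n - 2 + 1) * (fibre P y μ).ncard ≤ Nat.card X := by
    refine Nat.le_of_mul_le_mul_right (c := q ^ (n - 2)) ?_ (pow_pos (by omega) _)
    calc q ^ (n - 2 + 1) * (fibre P y μ).ncard * q ^ (n - 2)
        = q ^ (2 * (n - 2) + 1) * (fibre P y μ).ncard := by ring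
      _ ≤ Nat.card X * Nat.card (wstab P y) := h1
      _ ≤ _ := Nat.mul_le_mul_left _ hcard
  have h4 := arith_ts C hF hq hn
  set B := (q ^ (n - 2) - 1) * (q ^ (n - 2) - q ^ 2) with hB
  have h5 : isoCount C (n - 2) * (q ^ 2 * isoCount C (n - 4)) * q ^ (n - 2 + 1) * (q ^ 2 - 1) ≤
      B * (Nat.card X * (q ^ 2 - 1)) := by
    calc _ ≤ (fibre P y μ).ncard * B * q ^ (n - 2 + 1) * (q ^ 2 - 1) :=
          Nat.mul_le_mul_right _ (Nat.mul_le_mul_right _ h2)
      _ = B * (q ^ (n - 2 + 1) * (fibre P y μ).ncard * (q ^ 2 - 1)) := by ring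
      _ ≤ _ := Nat.mul_le_mul_left _ (Nat.mul_le_mul_right _ h3)
  have hBpos : 0 < B := by
    have h6 : q ^ 2 < q ^ (n - 2) := Nat.pow_lt_pow_right (by omega) (by omega)
    have h7 : 1 < q ^ (n - 2) := Nat.one_lt_pow (by omega) (by omega)
    exact Nat.mul_pos (by omega) (by omega)
  exact absurd ((h4.trans h5).trans_lt (Nat.mul_lt_mul_of_pos_left hsmall hBpos)) (lt_irrefl _)

/-- A point moved by a transvection at `e` has a trivial stabiliser in the Eichler group. -/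
theorem triv_of_moved {y : X} {t₀ : F} (ht₀ : t₀ ∈ zset C) (hy : qel P 0 t₀ • y ≠ y) :
    (∀ w, w ∈ wstab P y → w = 0) ∧ ∀ t, t ∈ zfix P y → t = 0 := by
  classical
  obtain ⟨μ, hμ, hμ0⟩ := exists_ann P ht₀ hy
  have hS : ∀ w, w ∈ wstab P y → w = 0 := by
    by_contra hcon
    simp only [not_forall] at hcon
    obtain ⟨a, ha, ha0⟩ := hcon
    by_cases hline : ∀ w ∈ wstab P y, ∃ c : F, w = c • a
    · exact no_line P hF hq hn hsmall hμ hμ0 ha ha0 hline
    simp only [not_forall, not_exists] at hline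
    obtain ⟨b, hb, hba⟩ := hline
    have hind : ∀ u v : V, u ≠ 0 → (∀ c : F, v ≠ c • u) → LinearIndependent F ![u, v] := fun u v hu hv => by
      rw [linearIndependent_fin2]
      refine ⟨fun h => hv 0 (by rw [zero_smul]; exact h), fun c hc => ?_⟩
      simp only [Matrix.cons_val_one, Matrix.cons_val_zero] at hc
      by_cases hc0 : c = 0
      · rw [hc0, zero_smul] at hc; exact hu hc.symm
      · exact hv c⁻¹ (by rw [← hc, smul_smul, inv_mul_cancel₀ hc0, one_smul])
    by_cases h0 : ∀ u ∈ wstab P y, ∀ v ∈ wstab P y, C.form u v = 0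
    · exact no_iso_plane P hF hq hn hsmall hμ hμ0 ha hb (hind a b ha0 hba) h0
    simp only [not_forall] at h0
    obtain ⟨u, hu, v, hv, huv⟩ := h0
    have hv0 : v ≠ 0 := fun h => huv (by rw [h, C.form_zero_right])
    by_cases hdep : ∃ c : F, u = c • v
    · obtain ⟨c, rfl⟩ := hdep
      -- some element outside the line of `v`
      obtain ⟨w, hw, hwv⟩ : ∃ w ∈ wstab P y, ∀ c : F, w ≠ c • v := by
        by_contra hh
        simp only [not_exists, not_and, not_forall, not_not] at hh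
        exact no_line P hF hq hn hsmall hμ hμ0 hv hv0 hh
      by_cases hwv' : C.form w v = 0
      · refine no_gram P hF hq hn hsmall hμ hμ0 hv ((wstab P y).add_mem hu hw)
          (hind v _ hv0 fun d hd => hwv (d - c) (by rw [sub_smul, ← hd, add_sub_cancel_left])) ?_
        rwa [C.form_add_left, hwv', add_zero]
      · exact no_gram P hF hq hn hsmall hμ hμ0 hv hw (hind v w hv0 hwv) hwv'
    · exact no_gram P hF hq hn hsmall hμ hμ0 hv hu (hind v u hv0 fun c hc => hdep ⟨c, hc⟩) huv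
  refine ⟨hS, ?_⟩
  by_contra hcon
  simp only [not_forall] at hcon
  obtain ⟨t, ht, ht0⟩ := hcon
  have hb2 : 2 ≤ Nat.card (zfix P y) := by
    haveI : Nontrivial (zfix P y) :=
      ⟨⟨⟨t, ht⟩, ⟨0, (zfix P y).zero_mem⟩, fun h => ht0 (congrArg Subtype.val h)⟩⟩
    exact Finite.one_lt_card
  have ha1 : Nat.card (wstab P y) = 1 := by
    haveI : Unique (wstab P y) := ⟨⟨0⟩, fun w => Subtype.ext (hS w.1 w.2)⟩
    exact Nat.card_unique
  have h1 := data_bound P hF (by omega) (y := y) hμ.1 hμ0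
  have hfib : 1 ≤ (fibre P y μ).ncard := by
    haveI : Finite (AddSubgroup V) :=
      Finite.of_injective (fun H : AddSubgroup V => (H : Set V)) SetLike.coe_injective
    exact (Set.ncard_pos (Set.toFinite _)).2 ⟨_, mem_fibre_self P hμ⟩
  rw [ha1, mul_one, natCard_perp, hF, ← pow_mul] at h1
  have h2 := small_upper hF hq hn hsmall
  obtain ⟨k, rfl⟩ : ∃ k, n = k + 6 := ⟨n - 6, by omega⟩
  simp only [show k + 6 - 2 = k + 4 by omega, show k + 4 + 2 = k + 6 by omega,
    show 2 * (k + 4) + 3 = 2 * k + 11 by omega, show 2 * (k + 4) = 2 * k + 8 by omega] at h1 h2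
  have h3 : (q - 1) * (q * q ^ (2 * k + 8)) * (q ^ 2 - 1) ≤ (q - 2) * (q ^ (2 * k + 11) + q ^ (k + 6)) := by
    calc (q - 1) * (q * q ^ (2 * k + 8)) * (q ^ 2 - 1)
        ≤ (q - 1) * (q * q ^ (2 * k + 8) * (fibre P y μ).ncard) * (q ^ 2 - 1) :=
          Nat.mul_le_mul_right _ (Nat.mul_le_mul_left _ (Nat.le_mul_of_pos_right _ hfib))
      _ ≤ (q - Nat.card (zfix P y)) * Nat.card X * (q ^ 2 - 1) := Nat.mul_le_mul_right _ h1
      _ ≤ (q - 2) * Nat.card X * (q ^ 2 - 1) :=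
          Nat.mul_le_mul_right _ (Nat.mul_le_mul_right _ (by omega))
      _ ≤ _ := by rw [mul_assoc]; exact Nat.mul_le_mul_left _ h2.le
  obtain ⟨r, rfl⟩ : ∃ r, q = r + 3 := ⟨q - 3, by omega⟩
  rw [show r + 3 - 1 = r + 2 by omega, show r + 3 - 2 = r + 1 by omega,
    show (r + 3) ^ 2 - 1 = (r + 2) * (r + 4) by
      have : (r + 3) ^ 2 = (r + 2) * (r + 4) + 1 := by ring
      omega,
    show 2 * k + 11 = (2 * k + 9) + 2 by omega, show k + 6 = (k + 4) + 2 by omega, ← pow_succ'] at h3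
  rw [pow_add (r + 3) (2 * k + 9) 2, pow_add (r + 3) (k + 4) 2] at h3
  have h4 : (r + 3) ^ 3 * (r + 3) ^ (k + 4) ≤ (r + 3) ^ (2 * k + 9) := by
    rw [← pow_add]
    exact Nat.pow_le_pow_right (by omega) (by omega)
  rw [show 2 * k + 8 + 1 = 2 * k + 9 by omega] at h3
  have h5 : 0 < (r + 3) ^ (k + 4) := pow_pos (by omega) _
  set A := (r + 3) ^ (2 * k + 9)
  set B := (r + 3) ^ (k + 4)
  have hr : 27 ≤ (r + 3) ^ 3 := Nat.pow_le_pow_left (show 3 ≤ r + 3 by omega) 3
  have hA : 0 < A := by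
    have : 27 * B ≤ (r + 3) ^ 3 * B := Nat.mul_le_mul_right _ hr
    omega
  have h6 : (r + 1) * (B * (r + 3) ^ 2) ≤ A := by
    refine Nat.le_of_mul_le_mul_left (c := r + 3) ?_ (by omega)
    calc (r + 3) * ((r + 1) * (B * (r + 3) ^ 2)) = (r + 1) * ((r + 3) ^ 3 * B) := by ring
      _ ≤ (r + 3) * A := Nat.mul_le_mul (by omega) h4
  have h7 : (r * r + 5 * r + 7) * A ≤ 1 * A := by
    refine le_trans ?_ (h6.trans (le_of_eq (one_mul A).symm))
    have e1 : (r + 2) * A * ((r + 2) * (r + 4)) = (r + 1) * (A * (r + 3) ^ 2) + (r * r + 5 * r + 7) * A := by ring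
    have e2 : (r + 1) * (A * (r + 3) ^ 2 + B * (r + 3) ^ 2) = (r + 1) * (A * (r + 3) ^ 2) + (r + 1) * (B * (r + 3) ^ 2) := by ring
    rw [e1, e2] at h3
    exact Nat.le_of_add_le_add_left h3
  have h8 := Nat.le_of_mul_le_mul_right h7 hA
  omega

end CfsgLib.PGroup.UnitIndex
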