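import Cfsg.Agent.Lib.PGroup.UnitIndex.Triv
import Cfsg.Agent.Lib.Classical.PSUSimple

/-!
A proper subgroup of a special unitary group has at least as many cosets as there are isotropic
points.
-/

set_option autoImplicit false
set_option linter.unusedSectionVars false

namespace CfsgLib.PGroup.UnitIndex

open scoped Matrix
open Matrix Module CfsgLib.SU CfsgLib.Classical CfsgLib.Classical.HermIsoCount

variable {F : Type*} [Field F] [Fintype F] {q : ℕ} {C : UCtx F q} {n : ℕ} (P : UPair C n)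

local notation "V" => (Fin n → F)

theorem exists_proj_one {w : V} (hw : w ∈ P.perp) (hw0 : w ≠ 0) : ∃ y ∈ P.perp, C.form y w = 1 := by
  obtain ⟨x, hx⟩ := C.exists_form_eq_one hw0
  refine ⟨P.proj x, P.proj_mem x, ?_⟩
  conv_rhs => rw [← hx, P.decomp x]
  simp [C.form_add_left, C.form_smul_left, C.form_swap_zero hw.1, C.form_swap_zero hw.2]

theorem exists_slice (hF : Fintype.card F = q ^ 2) (hq : 3 ≤ q) (hn : 6 ≤ n) {a : V} (ha : a ∈ P.perp)
    (ha0 : a ≠ 0) {β : F} (hβ : β ≠ 0 ∨ C.form a a ≠ 0) {γ : F} (hγ : C.bar γ = γ) :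
    ∃ b ∈ P.perp, C.form b a = β ∧ C.form b b = γ := by
  suffices h : 0 < (slice P a β γ).ncard by
    obtain ⟨b, hb⟩ := Set.nonempty_of_ncard_ne_zero h.ne'
    exact ⟨b, hb⟩
  have h0 : 0 < q ^ (2 * (n - 2) - 3) := pow_pos (by omega) _
  by_cases haa : C.form a a = 0
  · have := slice_lower_iso P hF (by omega) ha ha0 haa (hβ.resolve_right (not_not.2 haa)) hγ
    omega
  · have h1 := slice_lower_aniso P hF (by omega) ha haa β hγ
    have h2 : q ^ (n - 2 - 1) < q ^ (2 * (n - 2) - 3) := Nat.pow_lt_pow_right (by omega) (by omega)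
    omega

/-- A vector orthogonal to all isotropic vectors of the orthogonal of the pair lies in the pair's span. -/
theorem proj_eq_zero (hF : Fintype.card F = q ^ 2) (hq : 3 ≤ q) (hn : 6 ≤ n) {x : V}
    (h : ∀ u ∈ P.perp, C.form u u = 0 → C.form x u = 0) : P.proj x = 0 := by
  by_contra hne
  obtain ⟨b, hb, hbx, hbb⟩ := exists_slice P hF hq hn (P.proj_mem x) hne (β := 1) (Or.inl one_ne_zero)
    (γ := 0) (map_zero _)
  have h1 := C.form_swap_zero (h b hb hbb)
  rw [P.decomp x] at h1
  simp [C.form_add_right, C.form_smul_right, hb.1, hb.2, hbx] at h1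

variable {X : Type*} [MulAction ↥(Cfsg.SU n F q) X]

/-- The isotropic vectors whose transvections fix a point. -/
def Fixes (x : X) (z : V) : Prop := ∃ hz : C.form z z = 0, ∀ s (hs : s + C.bar s = 0), C.tv z hz s hs • x = x

theorem Fixes.map {x : X} {z : V} (h : Fixes (C := C) x z) {g : ↥(Cfsg.SU n F q)} (hg : g • x = x) :
    Fixes (C := C) x (g.1.1 *ᵥ z) := by
  obtain ⟨hz, h⟩ := h
  refine ⟨by rw [C.form_su, hz], fun s hs => ?_⟩
  rw [← C.tv_conj g z hz s hs, mul_smul, inv_smul_eq_iff.2 hg.symm, mul_smul, h s hs, hg]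

theorem qel_swap_e (P' : UPair C n) {w : V} {t : F} (h : Qok P' w t) :
    (qel P' w t).1.1 *ᵥ P'.f = P'.f + w + t • P'.e ∧ (qel P' w t).1.1 *ᵥ P'.e = P'.e := by
  rw [qel_eq P' h]
  exact ⟨P'.eich_f _ _ _ _, P'.eich_e _ _ _ _⟩

variable (hF : Fintype.card F = q ^ 2) (hq : 3 ≤ q) (hn : 6 ≤ n) [Finite X]
  (hsmall : Nat.card X * (q ^ 2 - 1) < isoCount C n)

include hF hq hn hsmall

/-- No transvection moves a point. -/
theorem no_moved (y : X) (hy : Moved P y) : False := by
  classical
  obtain ⟨x, h, ν, hx, hh, hN, hhx, hgef⟩ := exists_good P hF hq hn hsmall hy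
  have hν : ν ≠ 0 := hh.ne_zero
  have hbν : C.bar ν ≠ 0 := by simpa using hν
  have hWfix : ∀ u ∈ P.perp, C.form u u = 0 → Fixes (C := C) x u := fun u hu huu =>
    ⟨huu, fun s hs => hgef _ (P.diag_tv hu huu s hs)⟩
  -- vectors orthogonal to `e`
  have hA : ∀ z, Fixes (C := C) x z → C.form z P.e = 0 → C.form z P.f = 0 := by
    rintro z ⟨hz, hzfix⟩ hze
    by_contra hne
    set a := C.form z P.f with ha
    set w := P.proj z with hw
    have hzd : z = a • P.e + w := by
      conv_lhs => rw [P.decomp z, hze, zero_smul, add_zero]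
    have hww : C.form w w = 0 := by
      have h1 := hz
      rw [P.form_decomp, hze] at h1
      simpa using h1
    obtain ⟨t₀, ht₀, hx0⟩ := hx
    by_cases hw0 : w = 0
    · have ha0 : C.bar a ≠ 0 := by simpa using hne
      have hs : (t₀ / (a * C.bar a)) + C.bar (t₀ / (a * C.bar a)) = 0 := by
        rw [div_eq_inv_mul]
        exact zset_mul_fixed ht₀ (by rw [map_inv₀, C.norm_fixed])
      refine hx0 ?_
      have h1 := hzfix _ hs
      rw [C.tv_congr (hw := by rw [C.form_smul_left, C.form_smul_right, P.ee, mul_zero, mul_zero]) (hs := hs)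
        (show z = a • P.e by rw [hzd, hw0, add_zero]) rfl, C.tv_smul P.e P.ee] at h1
      rw [qel_tv P ht₀]
      rwa [C.tv_congr (hw := P.ee) (hs := ht₀) rfl
        (show a * C.bar a * (t₀ / (a * C.bar a)) = t₀ from mul_div_cancel₀ _ (mul_ne_zero hne ha0))] at h1
    · obtain ⟨δ, hδ0, hδ⟩ := C.exists_trace_zero
      set w' := (δ * C.bar a) • w with hw'
      have hwP : w ∈ P.perp := P.proj_mem z
      have hq' : Qok P w' (δ * (a * C.bar a)) :=
        ⟨P.perp.smul_mem _ hwP, by
          rw [hw', C.form_smul_left, C.form_smul_right, hww, mul_zero, mul_zero, add_zero, map_mul, map_mul,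
            C.bar_bar]
          linear_combination (a * C.bar a) * hδ⟩
      have hprod : C.tv z hz δ hδ = qel P w' (δ * (a * C.bar a)) * C.tv w hww δ hδ := by
        refine su_ext fun v => ?_
        rw [suMat_mulVec_mul, C.tv_mulVec, C.tv_mulVec, qel_mulVec P hq']
        conv_lhs => rw [hzd]
        simp only [hw', C.form_add_left, C.form_add_right, C.form_smul_left, C.form_smul_right, hwP.1, hww,
          map_mul, C.bar_bar, bar_zset (C := C) hδ]
        module
      have h1 := hzfix δ hδ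
      rw [hprod, mul_smul, hgef _ (P.diag_tv hwP hww δ hδ)] at h1
      have h2 := (moved_free P hF hq hn hsmall ⟨t₀, ht₀, hx0⟩ hq' h1).1
      rcases smul_eq_zero.1 h2 with h3 | h3
      · exact (mul_ne_zero hδ0 (by simpa using hne)) h3
      · exact hw0 h3
  -- all fixed centres are orthogonal to `f`
  have hB : ∀ z, Fixes (C := C) x z → C.form z P.f = 0 := by
    intro z hzF
    by_contra ha0
    have hb0 : C.form z P.e ≠ 0 := fun hb => ha0 (hA z hzF hb)
    obtain ⟨hz, -⟩ := id hzF
    set a := C.form z P.f with ha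
    set b := C.form z P.e with hb
    set w := P.proj z with hw
    have hwP : w ∈ P.perp := P.proj_mem z
    have hT : a * C.bar b + b * C.bar a + C.form w w = 0 := (P.form_decomp z z).symm.trans hz
    -- the image under the Levi element
    have hhf := hh.2
    have hhe := hh.1
    have hhz : h.1.1 *ᵥ z = (a * ν) • P.e + (b / C.bar ν) • P.f + h.1.1 *ᵥ w := by
      conv_lhs => rw [P.decomp z]
      rw [Matrix.mulVec_add, Matrix.mulVec_add, Matrix.mulVec_smul, Matrix.mulVec_smul, hhe, hhf, smul_smul,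
        smul_smul, div_eq_mul_inv]
    have hhwP : h.1.1 *ᵥ w ∈ P.perp := diag_perp P hh hwP
    -- choose the image of the part in the orthogonal of the pair
    obtain ⟨δ, hδ0, hδ, w', hw'P, hw'n, hX, hmove⟩ : ∃ δ : F, δ ≠ 0 ∧ δ + C.bar δ = 0 ∧
        ∃ w' ∈ P.perp, C.form w' w' = C.form w w ∧
        C.bar ν * (ν * a * C.bar b + b / C.bar ν * C.bar a + C.form w' w) = δ ∧
        ∃ g, P.Diag g 1 ∧ g.1.1 *ᵥ (h.1.1 *ᵥ w) = w' := by
      by_cases hw0 : w = 0
      · rw [hw0, C.form_zero_left, add_zero] at hT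
        refine ⟨(ν * C.bar ν - 1) * (a * C.bar b), mul_ne_zero (sub_ne_zero.2 hN)
          (mul_ne_zero ha0 (by simpa using hb0)), ?_, 0, P.perp.zero_mem, by rw [hw0], ?_, 1, diag_one P, ?_⟩
        · simp only [map_mul, map_sub, map_one, C.bar_bar]
          linear_combination (ν * C.bar ν - 1) * hT
        · rw [C.form_zero_left, add_zero, mul_add, ← mul_assoc (C.bar ν) (b / C.bar ν), mul_div_cancel₀ _ hbν]
          linear_combination hT
        · rw [hw0, Matrix.mulVec_zero, su_one_mulVec]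
      · obtain ⟨δ₀, hδ0, hδ⟩ := C.exists_trace_zero
        obtain ⟨c, hc, hc0, hc1⟩ := exists_fixed_scalar (C := C) hF hq
        set e0 := ν * C.bar ν * (a * C.bar b) + b * C.bar a with he0
        -- one of two values of the product avoids zero
        obtain ⟨δ, hδ0', hδ', hne⟩ : ∃ δ : F, δ ≠ 0 ∧ δ + C.bar δ = 0 ∧ δ - e0 ≠ 0 := by
          by_cases h1 : δ₀ - e0 = 0
          · refine ⟨c * δ₀, mul_ne_zero hc0 hδ0, zset_mul_fixed hδ hc, fun h2 => ?_⟩
            have h3 : (c - 1) * δ₀ = 0 := by linear_combination h2 - h1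
            exact (mul_ne_zero (sub_ne_zero.2 hc1) hδ0) h3
          · exact ⟨δ₀, hδ0, hδ, h1⟩
        obtain ⟨w', hw'P, hw'w, hw'n⟩ := exists_slice P hF hq hn hwP hw0 (β := (δ - e0) / C.bar ν)
          (Or.inl (div_ne_zero hne hbν)) (C.form_self_fixed w)
        have hw'0 : w' ≠ 0 := fun h1 => div_ne_zero hne hbν (by rw [← hw'w, h1, C.form_zero_left])
        obtain ⟨g, hg, hgw⟩ := exists_su_perp P (t := ![h.1.1 *ᵥ w]) (t' := ![w'])
          (linearIndependent_unique_iff.2 (su_mulVec_ne_zero h hw0)) (linearIndependent_unique_iff.2 hw'0)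
          (fun i => by fin_cases i; exact hhwP) (fun i => by fin_cases i; exact hw'P)
          (fun i j => by fin_cases i; fin_cases j; exact (C.form_su h w w).trans hw'n.symm) (Or.inl (by omega))
        refine ⟨δ, hδ0', hδ', w', hw'P, hw'n, ?_, g, hg, hgw 0⟩
        rw [hw'w, mul_add, mul_add, ← mul_assoc (C.bar ν) (b / C.bar ν), mul_div_cancel₀ _ hbν,
          mul_div_cancel₀ _ hbν, he0]
        ring
    obtain ⟨g, hg, hgw⟩ := hmove
    set z2 := (a * ν) • P.e + (b / C.bar ν) • P.f + w' with hz2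
    have hz2F : Fixes (C := C) x z2 := by
      have h1 := (hzF.map hhx).map (hgef g hg)
      rwa [hhz, Matrix.mulVec_add, Matrix.mulVec_add, Matrix.mulVec_smul, Matrix.mulVec_smul, hg.1, hg.2,
        map_one, inv_one, one_smul, one_smul, hgw, ← hz2] at h1
    set β := C.form z2 z with hβ
    have hβe : β = ν * a * C.bar b + b / C.bar ν * C.bar a + C.form w' w := by
      rw [hβ, P.form_decomp, show C.form z2 P.f = a * ν by
        simp [hz2, C.form_add_left, C.form_smul_left, P.ef, P.ff, hw'P.2], show C.form z2 P.e = b / C.bar ν by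
        simp [hz2, C.form_add_left, C.form_smul_left, P.ee, P.fe, hw'P.1], show P.proj z2 = w' by
        rw [hz2, P.proj_add, P.proj_add, P.proj_smul, P.proj_smul, P.proj_of_mem hw'P]
        simp [UPair.proj, P.ee, P.ef, P.fe, P.ff]]
      ring
    rw [← hβe] at hX
    have hs : (-δ⁻¹) + C.bar (-δ⁻¹) = 0 := (zset C).neg_mem (inv_mem_zset (C := C) hδ)
    obtain ⟨hzz, hzfix⟩ := id hzF
    have hv := hz2F.map (hzfix (-δ⁻¹) hs)
    rw [C.tv_mulVec] at hv
    have hsβ : -δ⁻¹ * β = -(C.bar ν)⁻¹ := by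
      rw [← hX, mul_inv, neg_mul, mul_assoc, inv_mul_cancel₀ (right_ne_zero_of_mul (hX ▸ hδ0)), mul_one]
    rw [← hβ, hsβ] at hv
    have he : C.form (z2 + -(C.bar ν)⁻¹ • z) P.e = 0 := by
      simp [hz2, C.form_add_left, C.form_smul_left, C.form_neg_left, P.ee, P.fe, hw'P.1, ← hb]
      field_simp
      ring
    have hf := hA _ hv he
    have : a * (ν * C.bar ν - 1) = 0 := by
      simp [hz2, C.form_add_left, C.form_smul_left, C.form_neg_left, P.ef, P.ff, hw'P.2, ← ha] at hf
      field_simp at hf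
      linear_combination hf
    rcases mul_eq_zero.1 this with h1 | h1
    · exact ha0 h1
    · exact hN (sub_eq_zero.1 h1)
  have hiso : ∀ z : {z : V // z ≠ 0 ∧ C.form z z = 0}, ∃ (g : ↥(Cfsg.SU n F q)) (a : F), a ≠ 0 ∧
      g.1.1 *ᵥ P.f = a • z.1 := fun z => C.exists_move (by omega) P.f_ne_zero z.2.1 P.ff z.2.2
  choose gz az haz hgz using hiso
  haveI : Fintype X := Fintype.ofFinite _
  haveI : Fintype {z : V // z ≠ 0 ∧ C.form z z = 0} := Fintype.ofFinite _
  have hinvfix : ∀ g : ↥(Cfsg.SU n F q), g • x = x → g⁻¹ • x = x := fun g hg => inv_smul_eq_iff.2 hg.symm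
  by_cases hex : ∃ z, Fixes (C := C) x z ∧ C.form z P.e ≠ 0
  · -- the stabiliser preserves the line of `f`
    obtain ⟨z, hzF, hze⟩ := hex
    have hline : ∀ g : ↥(Cfsg.SU n F q), g • x = x → ∃ c : F, g.1.1 *ᵥ P.f = c • P.f := by
      intro g hg
      set f' := g.1.1 *ᵥ P.f with hf'
      have key : ∀ u, Fixes (C := C) x u → C.form f' u = 0 := fun u hu => by
        have h1 := C.form_swap_zero (hB _ (hu.map (hinvfix g hg)))
        rwa [← C.form_su g, su_mulVec_inv] at h1
      have hp : P.proj f' = 0 := proj_eq_zero P hF hq hn fun u hu huu => key u (hWfix u hu huu)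
      have h2 := key z hzF
      rw [P.form_decomp, hp, C.form_zero_left, add_zero, hB z hzF, map_zero, mul_zero, add_zero] at h2
      have hfe : C.form f' P.f = 0 := (mul_eq_zero.1 h2).resolve_right (by simpa using hze)
      refine ⟨C.form f' P.e, ?_⟩
      conv_lhs => rw [P.decomp f', hfe, hp, zero_smul, zero_add, add_zero]
    let toX : {z : V // z ≠ 0 ∧ C.form z z = 0} → X := fun z => gz z • x
    have hfib : ∀ y : X, (Finset.univ.filter fun z => toX z = y).card ≤ q ^ 2 - 1 := by
      intro y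
      rcases (Finset.univ.filter fun z => toX z = y).eq_empty_or_nonempty with h0 | ⟨z₀, hz₀⟩
      · rw [h0, Finset.card_empty]; exact Nat.zero_le _
      have hU : (Finset.univ : Finset Fˣ).card = q ^ 2 - 1 := by
        rw [Finset.card_univ, ← Nat.card_eq_fintype_card, Nat.card_units, Nat.card_eq_fintype_card, hF]
      rw [← hU]
      have hc : ∀ z ∈ Finset.univ.filter (fun z => toX z = y), ∃ c : Fˣ, z.1 = (c : F) • z₀.1 := by
        intro z hz
        have hk : ((gz z₀)⁻¹ * gz z) • x = x := by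
          rw [mul_smul, inv_smul_eq_iff]
          exact ((Finset.mem_filter.1 hz).2).trans (Finset.mem_filter.1 hz₀).2.symm
        obtain ⟨c, hc⟩ := hline _ hk
        have h1 : az z • z.1 = c • az z₀ • z₀.1 := by
          rw [← hgz, ← hgz, ← Matrix.mulVec_smul, ← hc, ← suMat_mulVec_mul, mul_inv_cancel_left]
        have hc0 : (az z)⁻¹ * (c * az z₀) ≠ 0 := by
          refine mul_ne_zero (inv_ne_zero (haz z)) (mul_ne_zero (fun h0 => ?_) (haz z₀))
          rw [h0, zero_smul] at h1
          exact smul_ne_zero (haz z) z.2.1 h1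
        refine ⟨Units.mk0 _ hc0, ?_⟩
        rw [Units.val_mk0, ← smul_smul, ← smul_smul, ← h1, smul_smul, inv_mul_cancel₀ (haz z), one_smul]
      choose cf hcf using hc
      refine Finset.card_le_card_of_injOn (fun z => if hz : z ∈ Finset.univ.filter (fun z => toX z = y)
        then cf z hz else 1) (fun _ _ => Finset.mem_univ _) ?_
      intro z hz z' hz' he
      have hz1 : z ∈ Finset.univ.filter fun z => toX z = y := hz
      have hz2 : z' ∈ Finset.univ.filter fun z => toX z = y := hz'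
      simp only [dif_pos hz1, dif_pos hz2] at he
      exact Subtype.ext (by rw [hcf z hz1, hcf z' hz2, he])
    have h1 := Finset.card_le_mul_card_image (s := (Finset.univ : Finset {z : V // z ≠ 0 ∧ C.form z z = 0}))
      (f := toX) (q ^ 2 - 1) fun y _ => hfib y
    rw [Finset.card_univ, ← Nat.card_eq_fintype_card, ← isoCount] at h1
    have h2 := h1.trans (Nat.mul_le_mul_left _ ((Finset.card_le_univ _).trans_eq Nat.card_eq_fintype_card.symm))
    rw [mul_comm] at h2
    omega
  -- the stabiliser preserves the span of the pair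
  simp only [not_exists, not_and, not_not] at hex
  have horth : ∀ v : V, C.form v P.e = 0 → C.form v P.f = 0 → ∀ c d : F,
      C.form (c • P.e + d • P.f) v = 0 := fun v he hf c d => by
    rw [C.form_add_left, C.form_smul_left, C.form_smul_left, C.form_swap_zero he, C.form_swap_zero hf]
    simp
  have hspan : ∀ g : ↥(Cfsg.SU n F q), g • x = x →
      P.proj (g.1.1 *ᵥ P.f) = 0 ∧ P.proj (g.1.1 *ᵥ P.e) = 0 := by
    intro g hg
    have key : ∀ u ∈ P.perp, C.form u u = 0 →
        C.form ((g⁻¹).1.1 *ᵥ u) P.e = 0 ∧ C.form ((g⁻¹).1.1 *ᵥ u) P.f = 0 := fun u hu huu =>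
      ⟨hex _ ((hWfix u hu huu).map (hinvfix g hg)), hB _ ((hWfix u hu huu).map (hinvfix g hg))⟩
    constructor <;> refine proj_eq_zero P hF hq hn fun u hu huu => ?_ <;>
      rw [← su_mulVec_inv g u, C.form_su]
    · exact C.form_swap_zero (key u hu huu).2
    · exact C.form_swap_zero (key u hu huu).1
  let P' : UPair C n := ⟨P.f, P.e, P.ff, P.ee, P.fe⟩
  choose τ hτ using fun w : P'.perp => qok_exists P' w.2
  have hok : ∀ (w : P'.perp) (t : zset C), Qok P' w.1 (τ w + t.1) := fun w t =>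
    ⟨w.2, by rw [map_add]; linear_combination (hτ w).2 + mem_zset.1 t.2⟩
  let u : P'.perp × zset C → ↥(Cfsg.SU n F q) := fun p => qel P' p.1.1 (τ p.1 + p.2.1)
  let toX : {z : V // z ≠ 0 ∧ C.form z z = 0} × (P'.perp × zset C) → X := fun p => (gz p.1 * u p.2) • x
  haveI : Fintype X := Fintype.ofFinite _
  haveI : Fintype ({z : V // z ≠ 0 ∧ C.form z z = 0} × (P'.perp × zset C)) := Fintype.ofFinite _
  have hfib : ∀ y : X, (Finset.univ.filter fun p => toX p = y).card ≤ (q ^ 2) ^ 5 := by
    intro y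
    rcases (Finset.univ.filter fun p => toX p = y).eq_empty_or_nonempty with h0 | ⟨p₀, hp₀⟩
    · rw [h0, Finset.card_empty]; exact Nat.zero_le _
    set k₀ := gz p₀.1 * u p₀.2 with hk₀
    let L : (F × F) × (F × F) → V × V := fun c =>
      (k₀.1.1 *ᵥ (c.1.1 • P.e + c.1.2 • P.f), k₀.1.1 *ᵥ (c.2.1 • P.e + c.2.2 • P.f))
    let key : {z : V // z ≠ 0 ∧ C.form z z = 0} × (P'.perp × zset C) → V × V := fun p =>
      (az p.1 • p.1.1, (gz p.1 * u p.2).1.1 *ᵥ P.e)
    have hkey : ∀ p ∈ Finset.univ.filter (fun p => toX p = y), key p ∈ Finset.univ.image L := by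
      intro p hp
      have hk : (k₀⁻¹ * (gz p.1 * u p.2)) • x = x := by
        rw [mul_smul, inv_smul_eq_iff]
        exact ((Finset.mem_filter.1 hp).2).trans (Finset.mem_filter.1 hp₀).2.symm
      set k := k₀⁻¹ * (gz p.1 * u p.2)
      obtain ⟨e1, e2⟩ := hspan k hk
      refine Finset.mem_image.2 ⟨((C.form (k.1.1 *ᵥ P.f) P.f, C.form (k.1.1 *ᵥ P.f) P.e),
        (C.form (k.1.1 *ᵥ P.e) P.f, C.form (k.1.1 *ᵥ P.e) P.e)), Finset.mem_univ _, ?_⟩
      have d1 : k.1.1 *ᵥ P.f = C.form (k.1.1 *ᵥ P.f) P.f • P.e + C.form (k.1.1 *ᵥ P.f) P.e • P.f := by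
        conv_lhs => rw [P.decomp (k.1.1 *ᵥ P.f), e1, add_zero]
      have d2 : k.1.1 *ᵥ P.e = C.form (k.1.1 *ᵥ P.e) P.f • P.e + C.form (k.1.1 *ᵥ P.e) P.e • P.f := by
        conv_lhs => rw [P.decomp (k.1.1 *ᵥ P.e), e2, add_zero]
      refine Prod.ext ?_ ?_
      · show k₀.1.1 *ᵥ _ = az p.1 • p.1.1
        rw [← d1, ← suMat_mulVec_mul, mul_inv_cancel_left, suMat_mulVec_mul, ← hgz]
        exact congrArg _ (qel_swap_e P' (hok p.2.1 p.2.2)).2
      · show k₀.1.1 *ᵥ _ = (gz p.1 * u p.2).1.1 *ᵥ P.e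
        rw [← d2, ← suMat_mulVec_mul, mul_inv_cancel_left]
    -- a vector determines the parameters up to a scalar
    have hsame : ∀ p : {z : V // z ≠ 0 ∧ C.form z z = 0} × (P'.perp × zset C),
        ∀ p', p'.1 = p.1 → (gz p.1 * u p.2).1.1 *ᵥ P.e = (gz p'.1 * u p'.2).1.1 *ᵥ P.e → p' = p := by
      intro p p' he h1
      rw [he, suMat_mulVec_mul, suMat_mulVec_mul] at h1
      have h2 : (u p.2).1.1 *ᵥ P'.f = (u p'.2).1.1 *ᵥ P'.f := by
        have h3 := congrArg (fun v => (gz p.1)⁻¹.1.1 *ᵥ v) h1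
        simp only [su_inv_mulVec] at h3
        exact h3
      rw [(qel_swap_e P' (hok p.2.1 p.2.2)).1, (qel_swap_e P' (hok p'.2.1 p'.2.2)).1] at h2
      have h4 := congrArg (fun v => C.form v P'.f) h2
      simp [C.form_add_left, C.form_smul_left, P'.ff, P'.ef, p.2.1.2.2, p'.2.1.2.2] at h4
      rw [h4] at h2
      have h5 : (p.2.1 : V) = p'.2.1 := add_left_cancel (add_right_cancel h2)
      have h6 : p.2.1 = p'.2.1 := Subtype.ext h5
      refine Prod.ext he (Prod.ext h6.symm (Subtype.ext ?_))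
      rw [h6] at h4
      exact (add_left_cancel h4).symm
    have h7 : ∀ c ∈ Finset.univ.image L,
        ((Finset.univ.filter fun p => toX p = y).filter fun p => key p = c).card ≤ q ^ 2 := by
      intro c _
      rw [← hF, ← Finset.card_univ]
      refine Finset.card_le_card_of_injOn (fun p => az p.1) (fun _ _ => Finset.mem_univ _) ?_
      intro p hp p' hp' he
      have k1 := (Finset.mem_filter.1 hp).2
      have k2 := (Finset.mem_filter.1 hp').2
      have hk := k1.trans k2.symm
      have k3 : az p.1 • p.1.1 = az p'.1 • p'.1.1 := congrArg Prod.fst hk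
      rw [← show az p.1 = az p'.1 from he] at k3
      have k4 : p.1 = p'.1 := Subtype.ext (smul_right_injective V (haz p.1) k3)
      exact hsame p' p k4 (congrArg Prod.snd hk).symm
    refine (Finset.card_le_mul_card_image_of_maps_to hkey (q ^ 2) h7).trans ?_
    refine (Nat.mul_le_mul_left _ Finset.card_image_le).trans ?_
    rw [Finset.card_univ, Fintype.card_prod, Fintype.card_prod, hF]
    exact le_of_eq (by ring)
  have h1 := Finset.card_le_mul_card_image (s := (Finset.univ : Finset ({z : V // z ≠ 0 ∧ C.form z z = 0} ×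
    (P'.perp × zset C)))) (f := toX) ((q ^ 2) ^ 5) fun y _ => hfib y
  rw [Finset.card_univ, ← Nat.card_eq_fintype_card, Nat.card_prod, Nat.card_prod, natCard_perp, card_zset hF,
    hF, ← pow_mul, ← pow_succ, ← isoCount] at h1
  have h2 := h1.trans (Nat.mul_le_mul_left _ ((Finset.card_le_univ _).trans_eq Nat.card_eq_fintype_card.symm))
  have h3 := Nat.mul_le_mul_right (q ^ 2 - 1) h2
  rw [mul_assoc ((q ^ 2) ^ 5)] at h3
  have h4 : (q ^ 2) ^ 5 * (Nat.card X * (q ^ 2 - 1)) < (q ^ 2) ^ 5 * isoCount C n :=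
    Nat.mul_lt_mul_of_pos_left hsmall (pow_pos (pow_pos (by omega) _) _)
  have h5 : (q ^ 2) ^ 5 ≤ q ^ (2 * (n - 2) + 1) * (q ^ 2 - 1) := by
    have h8 : q ≤ q ^ 2 - 1 := by
      have : 3 * q ≤ q ^ 2 := by rw [pow_two]; exact Nat.mul_le_mul_right _ hq
      omega
    rw [← pow_mul]
    refine le_trans ?_ (Nat.mul_le_mul_left _ h8)
    rw [← pow_succ]
    exact Nat.pow_le_pow_right (by omega) (by omega)
  have h6 := Nat.mul_le_mul_left (isoCount C n) h5
  rw [mul_assoc] at h3
  linarith [mul_comm ((q ^ 2) ^ 5) (isoCount C n)]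

/-- A proper subgroup has index at least the number of isotropic points. -/
theorem all_fix (x : X) (g : ↥(Cfsg.SU n F q)) : g • x = x := by
  suffices h : ∀ g ∈ {A : ↥(Cfsg.SU n F q) | ∃ (v : Fin n → F) (c : F), Cfsg.hermForm n F q v v = 0 ∧
      ((A : Matrix.SpecialLinearGroup (Fin n) F) : Matrix (Fin n) (Fin n) F) =
        Cfsg.unitaryTransvection n q v c}, g ∈ MulAction.stabilizer (↥(Cfsg.SU n F q)) x by
    have h1 := (Subgroup.closure_le _).2 h
    rw [CfsgLib.Perm.Trans.Unit.su_closure hF n (by omega) (by omega)] at h1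
    exact h1 (Subgroup.mem_top g)
  rintro A ⟨v, c, hv, hA⟩
  rw [MulAction.mem_stabilizer_iff]
  have hAv : ∀ y, A.1.1 *ᵥ y = y + (c * C.form y v) • v := fun y => by
    rw [hA, CfsgLib.Perm.Trans.Unit.unitaryTransvection_mulVec, CfsgLib.Perm.Trans.Unit.hermForm_eq_form C]
  rw [CfsgLib.Perm.Trans.Unit.hermForm_eq_form C] at hv
  rcases eq_or_ne v 0 with rfl | hv0
  · rw [show A = 1 from su_ext fun y => by rw [hAv, su_one_mulVec]; simp, one_smul]
  obtain ⟨y, hy⟩ := C.exists_form_eq_one hv0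
  have hct : c + C.bar c = 0 := by
    have h2 := C.form_su A y y
    have hvy : C.form v y = 1 := by rw [← C.bar_form, hy, map_one]
    simp only [hAv, hy, hvy, C.form_add_left, C.form_add_right, C.form_smul_left, C.form_smul_right, hv,
      mul_one] at h2
    linear_combination h2
  obtain ⟨P, rfl⟩ := uPair_exists C hv0 hv
  rw [show A = qel P 0 c from su_ext fun y => by
    rw [hAv, qel_mulVec P (qok_zero P hct), C.form_zero_right]; simp]
  by_contra hne
  exact no_moved P hF hq hn hsmall x ⟨c, hct, hne⟩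

end CfsgLib.PGroup.UnitIndex
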