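import Cfsg.Agent.Lib.PGroup.UnitIndex.Counts

/-!
Orbits of the Eichler group of a hyperbolic pair, described by stabilisers and characters.
-/

set_option autoImplicit false
set_option linter.unusedSectionVars false

namespace CfsgLib.PGroup.UnitIndex

open Matrix Module CfsgLib.SU CfsgLib.Classical

theorem card_ann_le {A : Type*} [AddCommGroup A] [Finite A] (S : AddSubgroup A) (Φ : Set (AddChar A ℂ))
    (h : ∀ χ ∈ Φ, ∀ a ∈ S, χ a = 1) : Φ.ncard * Nat.card S ≤ Nat.card A := by
  classical
  haveI : Fintype (A ⧸ S) := Fintype.ofFinite _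
  have hlift : ∀ χ : Φ, ∃ χ' : AddChar (A ⧸ S) ℂ, ∀ a : A, χ' (QuotientAddGroup.mk a) = χ.1 a := fun χ =>
    ⟨{ toFun := fun x => Quotient.liftOn' x (fun a => χ.1 a) fun a b hab => by
          have h1 := h χ.1 χ.2 _ (QuotientAddGroup.leftRel_apply.1 hab)
          calc χ.1 a = χ.1 a * χ.1 (-a + b) := by rw [h1, mul_one]
            _ = χ.1 b := by rw [← AddChar.map_add_eq_mul, add_neg_cancel_left]
       map_zero_eq_one' := χ.1.map_zero_eq_one
       map_add_eq_mul' := fun x x' => by
         induction x using QuotientAddGroup.induction_on with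
         | H a =>
           induction x' using QuotientAddGroup.induction_on with
           | H b => exact χ.1.map_add_eq_mul a b }, fun a => rfl⟩
  choose T hT using hlift
  have hinj : Function.Injective T := fun χ χ' he =>
    Subtype.ext (DFunLike.ext _ _ fun a => by rw [← hT, he, hT])
  have h1 := Nat.card_le_card_of_injective T hinj
  rw [Nat.card_coe_set_eq, Nat.card_eq_fintype_card, AddChar.card_eq, ← Nat.card_eq_fintype_card] at h1
  rw [AddSubgroup.card_eq_card_quotient_mul_card_addSubgroup S]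
  exact Nat.mul_le_mul_right _ h1

variable {F : Type*} [Field F] [Fintype F] {q : ℕ} {C : UCtx F q} {n : ℕ} (P : UPair C n)

local notation "V" => (Fin n → F)

variable {X : Type*} [MulAction ↥(Cfsg.SU n F q) X]

theorem diag_one : P.Diag (1 : ↥(Cfsg.SU n F q)) 1 :=
  ⟨by rw [su_one_mulVec, one_smul], by rw [su_one_mulVec, map_one, inv_one, one_smul]⟩

theorem diag_mul {g g' : ↥(Cfsg.SU n F q)} {l l' : F} (h : P.Diag g l) (h' : P.Diag g' l') :
    P.Diag (g * g') (l * l') :=
  ⟨by rw [suMat_mulVec_mul, h'.1, Matrix.mulVec_smul, h.1, smul_smul, mul_comm],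
    by rw [suMat_mulVec_mul, h'.2, Matrix.mulVec_smul, h.2, smul_smul, map_mul, mul_inv, mul_comm]⟩

theorem diag_inv {g : ↥(Cfsg.SU n F q)} {l : F} (h : P.Diag g l) : P.Diag g⁻¹ l⁻¹ := by
  have hl := h.ne_zero
  have hbl : C.bar l ≠ 0 := by simpa using hl
  constructor
  · conv_rhs => rw [← su_inv_mulVec g P.e, h.1, Matrix.mulVec_smul, smul_smul, inv_mul_cancel₀ hl, one_smul]
  · rw [map_inv₀, inv_inv]
    conv_rhs => rw [← su_inv_mulVec g P.f, h.2, Matrix.mulVec_smul, smul_smul, mul_inv_cancel₀ hbl, one_smul]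

/-- The transvection parameters fixing a point. -/
def zfix (y : X) : AddSubgroup F where
  carrier := {t | t ∈ zset C ∧ qel P 0 t • y = y}
  zero_mem' := ⟨(zset C).zero_mem, by rw [qel_zero, one_smul]⟩
  add_mem' {a b} ha hb := ⟨(zset C).add_mem ha.1 hb.1, by
    rw [← qel_zero_mul P (qok_zero P ha.1) hb.1, mul_smul, ha.2, hb.2]⟩
  neg_mem' {a} ha := ⟨(zset C).neg_mem ha.1, by
    have h := qel_zero_mul P (qok_zero P ha.1) ((zset C).neg_mem ha.1)
    rw [add_neg_cancel, qel_zero] at h
    rw [show qel P 0 (-a) = (qel P 0 a)⁻¹ from eq_inv_of_mul_eq_one_left h, inv_smul_eq_iff, ha.2]⟩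

theorem mem_zfix {y : X} {t : F} : t ∈ zfix P y ↔ t ∈ zset C ∧ qel P 0 t • y = y := Iff.rfl

/-- The projection of the stabiliser of a point to the orthogonal of the pair. -/
def wstab (y : X) : AddSubgroup V where
  carrier := {w | ∃ t, Qok P w t ∧ qel P w t • y = y}
  zero_mem' := ⟨0, qok_zero P (zset C).zero_mem, by rw [qel_zero, one_smul]⟩
  add_mem' := by
    rintro a b ⟨s, hs, ha⟩ ⟨r, hr, hb⟩
    exact ⟨_, qok_mul P hs hr, by rw [← qel_mul P hs hr, mul_smul, hb, ha]⟩
  neg_mem' := by
    rintro a ⟨s, hs, ha⟩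
    exact ⟨_, qok_neg P hs, by rw [← qel_inv P hs, inv_smul_eq_iff, ha]⟩

theorem mem_wstab {y : X} {w : V} : w ∈ wstab P y ↔ ∃ t, Qok P w t ∧ qel P w t • y = y := Iff.rfl

theorem wstab_le {y : X} {w : V} (h : w ∈ wstab P y) : w ∈ P.perp := by
  obtain ⟨t, ht, -⟩ := h; exact ht.1

/-- The characters of the transvection parameters which are trivial on those fixing a point. -/
def ann (y : X) : Set F := {μ | μ ∈ zset C ∧ ∀ t ∈ zfix P y, chi F (μ * t) = 1}

theorem comm_mem_zset {a b : V} : C.form a b - C.form b a ∈ zset C := by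
  rw [mem_zset, map_sub, C.bar_form, C.bar_form]; ring

/-- Commutators of stabilising elements fix the point. -/
theorem comm_mem_zfix {y : X} {a b : V} (ha : a ∈ wstab P y) (hb : b ∈ wstab P y) :
    C.form a b - C.form b a ∈ zfix P y := by
  obtain ⟨s, hs, hay⟩ := ha
  obtain ⟨r, hr, hby⟩ := hb
  refine ⟨comm_mem_zset, ?_⟩
  have h1 : qel P 0 (C.form a b - C.form b a) * (qel P b r * qel P a s) = qel P a s * qel P b r := by
    rw [qel_mul P hr hs, qel_mul P hs hr, qel_zero_mul P (qok_mul P hr hs) comm_mem_zset, add_comm b a]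
    congr 1; ring
  have h2 : (qel P a s * qel P b r) • y = y := by rw [mul_smul, hby, hay]
  rw [← h1, mul_smul, mul_smul, hay, hby] at h2
  exact h2

/-- The pairing of trace-zero scalars. -/
noncomputable def zchar (μ : F) : AddChar (zset C) ℂ where
  toFun t := chi F (μ * t.1)
  map_zero_eq_one' := by
    show chi F (μ * (0 : F)) = 1
    rw [mul_zero, AddChar.map_zero_eq_one]
  map_add_eq_mul' s t := by
    show chi F (μ * (s.1 + t.1)) = _
    rw [mul_add, AddChar.map_add_eq_mul]

theorem zchar_injOn : Set.InjOn (zchar (C := C)) (zset C : Set F) := fun a ha b hb h =>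
  sub_eq_zero.1 (chi_separates (C := C) ((zset C).sub_mem ha hb) fun t ht => by
    have h1 : chi F (a * t) = chi F (b * t) := DFunLike.congr_fun h ⟨t, ht⟩
    rw [sub_mul, sub_eq_add_neg, AddChar.map_add_eq_mul, AddChar.map_neg_eq_inv, h1, mul_inv_cancel₀]
    exact (AddChar.val_isUnit _ _).ne_zero)

theorem ann_ncard (hF : Fintype.card F = q ^ 2) (y : X) :
    (ann P y).ncard * Nat.card (zfix P y) ≤ q := by
  have h1 := card_ann_le ((zfix P y).addSubgroupOf (zset C)) (zchar (C := C) '' ann P y) (by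
    rintro _ ⟨μ, hμ, rfl⟩ t ht
    exact hμ.2 t.1 ht)
  rwa [(zchar_injOn.mono fun μ hμ => hμ.1).ncard_image, card_zset hF,
    Nat.card_congr (AddSubgroup.addSubgroupOfEquivOfLe (show zfix P y ≤ zset C from fun t ht => ht.1)).toEquiv] at h1

theorem exists_ann {y : X} {t₀ : F} (ht₀ : t₀ ∈ zset C) (hy : qel P 0 t₀ • y ≠ y) :
    ∃ μ ∈ ann P y, μ ≠ 0 := by
  classical
  haveI : Fintype (zset C) := Fintype.ofFinite _
  have hbij : Function.Bijective (fun μ : zset C => zchar (C := C) μ.1) :=
    (Fintype.bijective_iff_injective_and_card _).2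
      ⟨fun a b h => Subtype.ext (zchar_injOn a.2 b.2 h), AddChar.card_eq.symm⟩
  set S := (zfix P y).addSubgroupOf (zset C)
  haveI : Fintype ((zset C) ⧸ S) := Fintype.ofFinite _
  have hne : ((⟨t₀, ht₀⟩ : zset C) : (zset C) ⧸ S) ≠ 0 := fun h =>
    hy (((QuotientAddGroup.eq_zero_iff (⟨t₀, ht₀⟩ : zset C)).1 h) : t₀ ∈ zfix P y).2
  obtain ⟨χ, hχ⟩ := (AddChar.exists_apply_ne_zero (α := (zset C) ⧸ S)).2 hne
  obtain ⟨μ, hμ⟩ := hbij.2 (χ.compAddMonoidHom (QuotientAddGroup.mk' S))
  have hev : ∀ t : zset C, chi F (μ.1 * t.1) = χ (t : (zset C) ⧸ S) := fun t => DFunLike.congr_fun hμ t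
  refine ⟨μ.1, ⟨μ.2, fun t ht => ?_⟩, fun h => hχ ?_⟩
  · rw [hev ⟨t, ht.1⟩, (QuotientAddGroup.eq_zero_iff (⟨t, ht.1⟩ : zset C)).2 ht, AddChar.map_zero_eq_one]
  · rw [← hev, h, zero_mul, AddChar.map_zero_eq_one]

/-- The stabiliser is totally isotropic for the commutator pairing. -/
theorem wstab_sq_le {y : X} {μ : F} (hμ : μ ∈ ann P y) (hμ0 : μ ≠ 0) :
    Nat.card (wstab P y) * Nat.card (wstab P y) ≤ Nat.card P.perp := by
  let χ : V → AddChar P.perp ℂ := fun w =>
    { toFun := fun v => chi F (μ * (C.form w v.1 - C.form v.1 w))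
      map_zero_eq_one' := by
        show chi F (μ * (C.form w (0 : V) - C.form (0 : V) w)) = 1
        rw [C.form_zero_left, C.form_zero_right, sub_zero, mul_zero, AddChar.map_zero_eq_one]
      map_add_eq_mul' := fun v v' => by
        show chi F (μ * (C.form w (v.1 + v'.1) - C.form (v.1 + v'.1) w)) = _
        rw [C.form_add_right, C.form_add_left, ← AddChar.map_add_eq_mul]
        congr 1; ring }
  have hinj : Set.InjOn χ (P.perp : Set V) := by
    intro a ha b hb h
    rw [← sub_eq_zero]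
    by_contra hne
    have hd := P.perp.sub_mem ha hb
    obtain ⟨x, hx⟩ := C.exists_form_eq_one hne
    have hx' : C.form (P.proj x) (a - b) = 1 := by
      conv_rhs => rw [← hx, P.decomp x]
      simp [C.form_add_left, C.form_smul_left, C.form_swap_zero hd.1, C.form_swap_zero hd.2]
    refine hμ0 (chi_separates (C := C) hμ.1 fun t ht => ?_)
    obtain ⟨y', hy', -⟩ := C.exists_trace_ne_zero
    have hne' : C.bar y' - y' ≠ 0 := sub_ne_zero.2 hy'
    have hcf : C.bar (t / (C.bar y' - y')) = t / (C.bar y' - y') := by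
      rw [map_div₀, bar_zset ht, map_sub, C.bar_bar, ← neg_sub (C.bar y') y', neg_div_neg_eq]
    set c := t / (C.bar y' - y') with hcd
    have h1 := DFunLike.congr_fun h ⟨(c * y') • P.proj x, P.perp.smul_mem _ (P.proj_mem x)⟩
    change chi F (μ * (C.form a _ - C.form _ a)) = chi F (μ * (C.form b _ - C.form _ b)) at h1
    have h2 : μ * t = μ * (C.form a ((c * y') • P.proj x) - C.form ((c * y') • P.proj x) a) -
        μ * (C.form b ((c * y') • P.proj x) - C.form ((c * y') • P.proj x) b) := by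
      have e1 : C.form a (P.proj x) - C.form b (P.proj x) = 1 := by
        rw [← C.form_sub_left, ← C.bar_form, hx', map_one]
      have e2 : C.form (P.proj x) a - C.form (P.proj x) b = 1 := by rw [← C.form_sub_right, hx']
      have e3 : t = c * C.bar y' - c * y' := by
        rw [← mul_sub, hcd, div_mul_cancel₀ _ hne']
      simp only [C.form_smul_left, C.form_smul_right, map_mul, hcf]
      linear_combination μ * e3 - μ * c * C.bar y' * e1 + μ * c * y' * e2
    rw [h2, sub_eq_add_neg, AddChar.map_add_eq_mul, AddChar.map_neg_eq_inv, h1, mul_inv_cancel₀]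
    exact (AddChar.val_isUnit _ _).ne_zero
  have h1 := card_ann_le ((wstab P y).addSubgroupOf P.perp.toAddSubgroup)
    (χ '' (wstab P y : Set V)) (by
      rintro _ ⟨w, hw, rfl⟩ v hv
      exact hμ.2 _ (comm_mem_zfix P hw hv))
  rw [(hinj.mono fun w hw => wstab_le P hw).ncard_image, ← Nat.card_coe_set_eq,
    Nat.card_congr (AddSubgroup.addSubgroupOfEquivOfLe
      (show wstab P y ≤ P.perp.toAddSubgroup from fun w hw => wstab_le P hw)).toEquiv] at h1
  exact h1

theorem conj_fix {g k : ↥(Cfsg.SU n F q)} {y : X} (h : k • y = y) : (g * k * g⁻¹) • g • y = g • y := by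
  rw [mul_smul, inv_smul_smul, mul_smul, h]

theorem wstab_levi_le {g : ↥(Cfsg.SU n F q)} {l : F} (hg : P.Diag g l) {y : X} {w : V}
    (hw : w ∈ wstab P y) : C.bar l • (g.1.1 *ᵥ w) ∈ wstab P (g • y) := by
  obtain ⟨t, ht, hy⟩ := hw
  obtain ⟨h1, h2⟩ := qel_conj P hg ht
  exact ⟨_, h1, by rw [← h2, conj_fix hy]⟩

theorem zfix_levi_le {g : ↥(Cfsg.SU n F q)} {l : F} (hg : P.Diag g l) {y : X} {t : F}
    (ht : t ∈ zfix P y) : l * C.bar l * t ∈ zfix P (g • y) := by
  obtain ⟨h1, h2⟩ := qel_conj P hg (qok_zero P ht.1)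
  rw [Matrix.mulVec_zero, smul_zero] at h2
  exact ⟨zset_mul_fixed ht.1 (C.norm_fixed l), by rw [← h2, conj_fix ht.2]⟩

theorem ann_levi {g : ↥(Cfsg.SU n F q)} {l : F} (hg : P.Diag g l) {y : X} {μ : F}
    (hμ : μ ∈ ann P y) : μ / (l * C.bar l) ∈ ann P (g • y) := by
  refine ⟨by rw [div_eq_inv_mul]; exact zset_mul_fixed hμ.1 (by rw [map_inv₀, C.norm_fixed]), fun t ht => ?_⟩
  have h1 := zfix_levi_le P (diag_inv P hg) ht
  rw [inv_smul_smul] at h1
  rw [← hμ.2 _ h1]
  congr 1
  rw [map_inv₀, ← mul_inv]; ring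

theorem card_wstab_levi_le {g : ↥(Cfsg.SU n F q)} {l : F} (hg : P.Diag g l) (y : X) :
    Nat.card (wstab P y) ≤ Nat.card (wstab P (g • y)) := by
  refine Nat.card_le_card_of_injective (fun w => (⟨_, wstab_levi_le P hg w.2⟩ : wstab P (g • y))) ?_
  intro a b h
  have hbl : C.bar l ≠ 0 := by simpa using hg.ne_zero
  have h1 := smul_right_injective V hbl (congrArg Subtype.val h)
  exact Subtype.ext (by rw [← su_inv_mulVec g a.1, ← su_inv_mulVec g b.1]; exact congrArg _ h1)

theorem card_wstab_levi {g : ↥(Cfsg.SU n F q)} {l : F} (hg : P.Diag g l) (y : X) :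
    Nat.card (wstab P (g • y)) = Nat.card (wstab P y) := by
  refine le_antisymm ?_ (card_wstab_levi_le P hg y)
  have := card_wstab_levi_le P (diag_inv P hg) (g • y)
  rwa [inv_smul_smul] at this

theorem card_zfix_levi_le {g : ↥(Cfsg.SU n F q)} {l : F} (hg : P.Diag g l) (y : X) :
    Nat.card (zfix P y) ≤ Nat.card (zfix P (g • y)) := by
  refine Nat.card_le_card_of_injective (fun w => (⟨_, zfix_levi_le P hg w.2⟩ : zfix P (g • y))) ?_
  intro a b h
  have hN : l * C.bar l ≠ 0 := mul_ne_zero hg.ne_zero (by simpa using hg.ne_zero)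
  exact Subtype.ext (mul_left_cancel₀ hN (congrArg Subtype.val h))

theorem card_zfix_levi {g : ↥(Cfsg.SU n F q)} {l : F} (hg : P.Diag g l) (y : X) :
    Nat.card (zfix P (g • y)) = Nat.card (zfix P y) := by
  refine le_antisymm ?_ (card_zfix_levi_le P hg y)
  have := card_zfix_levi_le P (diag_inv P hg) (g • y)
  rwa [inv_smul_smul] at this

theorem wstab_qel_le {w : V} {t : F} (h : Qok P w t) (y : X) : wstab P y ≤ wstab P (qel P w t • y) := by
  rintro a ⟨s, hs, hy⟩
  have hq : Qok P a (s + (C.form w a - C.form a w)) :=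
    ⟨hs.1, by linear_combination hs.2 + mem_zset.1 (comm_mem_zset (C := C) (a := w) (b := a)) + map_add C.bar s (C.form w a - C.form a w)⟩
  refine ⟨_, hq, ?_⟩
  have h1 : qel P a (s + (C.form w a - C.form a w)) * qel P w t = qel P w t * qel P a s := by
    rw [qel_mul P hq h, qel_mul P h hs, add_comm a w]; congr 1; ring
  rw [← mul_smul, h1, mul_smul, hy]

theorem wstab_qel {w : V} {t : F} (h : Qok P w t) (y : X) : wstab P (qel P w t • y) = wstab P y := by
  refine le_antisymm ?_ (wstab_qel_le P h y)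
  have := wstab_qel_le P (qok_neg P h) (qel P w t • y)
  rwa [← qel_inv P h, inv_smul_smul] at this

theorem zfix_qel {w : V} {t : F} (h : Qok P w t) (y : X) : zfix P (qel P w t • y) = zfix P y := by
  ext s
  refine and_congr_right fun hs => ?_
  have hc : qel P 0 s * qel P w t = qel P w t * qel P 0 s := by
    rw [qel_zero_mul P h hs, qel_mul_zero P h hs]
  rw [← mul_smul, hc, mul_smul]
  exact smul_left_cancel_iff _

/-- Points with different stabiliser data lie in different orbits of the Eichler group. -/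
theorem orbit_count (hF : Fintype.card F = q ^ 2) [Finite X] {K : Type*} [Finite K] (rep : K → X)
    (hdata : ∀ i j, wstab P (rep i) = wstab P (rep j) → zfix P (rep i) = zfix P (rep j) → i = j) {a b : ℕ}
    (ha : ∀ i, Nat.card (wstab P (rep i)) = a) (hb : ∀ i, Nat.card (zfix P (rep i)) = b) :
    Nat.card K * Nat.card P.perp * q ≤ Nat.card X * a * b := by
  classical
  haveI : Fintype K := Fintype.ofFinite _
  choose τ hτ using fun w : P.perp => qok_exists P w.2
  let SW : K → AddSubgroup P.perp := fun i => (wstab P (rep i)).addSubgroupOf P.perp.toAddSubgroup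
  let SZ : K → AddSubgroup (zset C) := fun i => (zfix P (rep i)).addSubgroupOf (zset C)
  let toX : (Σ i : K, (P.perp ⧸ SW i) × ((zset C) ⧸ SZ i)) → X := fun p =>
    qel P (Quotient.out p.2.1).1 (τ (Quotient.out p.2.1) + (Quotient.out p.2.2).1) • rep p.1
  have hok : ∀ (w : P.perp) (t : zset C), Qok P w.1 (τ w + t.1) := fun w t =>
    ⟨w.2, by rw [map_add]; linear_combination (hτ w).2 + mem_zset.1 t.2⟩
  have hinj : Function.Injective toX := by
    rintro ⟨i, w, t⟩ ⟨j, w', t'⟩ h
    have h' : qel P (Quotient.out w).1 (τ (Quotient.out w) + (Quotient.out t).1) • rep i =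
      qel P (Quotient.out w').1 (τ (Quotient.out w') + (Quotient.out t').1) • rep j := h
    obtain rfl : i = j := hdata i j
      (by rw [← wstab_qel P (hok (Quotient.out w) (Quotient.out t)) (rep i), h', wstab_qel P (hok _ _)])
      (by rw [← zfix_qel P (hok (Quotient.out w) (Quotient.out t)) (rep i), h', zfix_qel P (hok _ _)])
    set u := Quotient.out w
    set u' := Quotient.out w'
    have h1 : (qel P u.1 (τ u + (Quotient.out t).1))⁻¹ * qel P u'.1 (τ u' + (Quotient.out t').1) ∈
        MulAction.stabilizer _ (rep i) := by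
      rw [MulAction.mem_stabilizer_iff, mul_smul, ← h', inv_smul_smul]
    have hw : w = w' := by
      rw [← Quotient.out_eq w, ← Quotient.out_eq w']
      refine Quotient.sound (QuotientAddGroup.leftRel_apply.2 ?_)
      rw [MulAction.mem_stabilizer_iff, qel_inv P (hok _ _), qel_mul P (qok_neg P (hok _ _)) (hok _ _)] at h1
      exact ⟨_, qok_mul P (qok_neg P (hok _ _)) (hok _ _), h1⟩
    subst hw
    have ht : t = t' := by
      rw [← Quotient.out_eq t, ← Quotient.out_eq t']
      refine Quotient.sound (QuotientAddGroup.leftRel_apply.2 ⟨(-Quotient.out t + Quotient.out t').2, ?_⟩)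
      have h2 : qel P u.1 (τ u + (Quotient.out t').1) =
          qel P u.1 (τ u + (Quotient.out t).1) * qel P 0 (-(Quotient.out t).1 + (Quotient.out t').1) := by
        rw [qel_mul_zero P (hok _ _) ((zset C).add_mem ((zset C).neg_mem (Quotient.out t).2) (Quotient.out t').2)]
        congr 1; ring
      rw [h2, inv_mul_cancel_left, MulAction.mem_stabilizer_iff] at h1
      exact h1
    rw [ht]
  have hqw : ∀ i, Nat.card (P.perp ⧸ SW i) * a = Nat.card P.perp := fun i => by
    rw [← ha i, ← Nat.card_congr (AddSubgroup.addSubgroupOfEquivOfLe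
      (show wstab P (rep i) ≤ P.perp.toAddSubgroup from fun w hw => wstab_le P hw)).toEquiv]
    exact (AddSubgroup.card_eq_card_quotient_mul_card_addSubgroup _).symm
  have hqz : ∀ i, Nat.card ((zset C) ⧸ SZ i) * b = q := fun i => by
    rw [← hb i, ← Nat.card_congr (AddSubgroup.addSubgroupOfEquivOfLe
      (show zfix P (rep i) ≤ zset C from fun t ht => ht.1)).toEquiv]
    exact (AddSubgroup.card_eq_card_quotient_mul_card_addSubgroup _).symm.trans (card_zset hF)
  have h1 := Nat.card_le_card_of_injective toX hinj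
  rw [Nat.card_sigma] at h1
  calc Nat.card K * Nat.card P.perp * q
      = ∑ i : K, Nat.card ((P.perp ⧸ SW i) × ((zset C) ⧸ SZ i)) * (a * b) := by
        rw [Finset.sum_congr rfl fun i _ => (show Nat.card ((P.perp ⧸ SW i) × ((zset C) ⧸ SZ i)) * (a * b) =
          Nat.card P.perp * q by
            rw [Nat.card_prod]
            calc _ = (Nat.card (P.perp ⧸ SW i) * a) * (Nat.card ((zset C) ⧸ SZ i) * b) := by ring
              _ = _ := by rw [hqw, hqz]),
          Finset.sum_const, Finset.card_univ, smul_eq_mul, ← Nat.card_eq_fintype_card, mul_assoc]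
    _ ≤ Nat.card X * a * b := by
        rw [← Finset.sum_mul, mul_assoc (Nat.card X)]
        exact Nat.mul_le_mul_right _ h1

/-- The stabilisers occurring with a given character. -/
def fibre (y : X) (μ : F) : Set (AddSubgroup V) :=
  {S | ∃ g l, P.Diag g l ∧ S = wstab P (g • y) ∧ μ ∈ ann P (g • y)}

theorem mem_fibre_self {y : X} {μ : F} (hμ : μ ∈ ann P y) : wstab P y ∈ fibre P y μ :=
  ⟨1, 1, diag_one P, by rw [one_smul], by rwa [one_smul]⟩

theorem exists_smul_mem_fibre {y : X} {μ : F} (hμ : μ ∈ ann P y) {g : ↥(Cfsg.SU n F q)} (hg : P.Diag g 1) :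
    wstab P (g • y) ∈ fibre P y μ :=
  ⟨g, 1, hg, rfl, by simpa using ann_levi P hg hμ⟩

theorem data_bound (hF : Fintype.card F = q ^ 2) (hn : 3 ≤ n) [Finite X] {y : X} {μ : F}
    (hμ : μ ∈ zset C) (hμ0 : μ ≠ 0) :
    (q - 1) * (q * Nat.card P.perp * (fibre P y μ).ncard) ≤
      (q - Nat.card (zfix P y)) * (Nat.card X * Nat.card (wstab P y)) := by
  classical
  haveI : Finite (AddSubgroup V) :=
    Finite.of_injective (fun H : AddSubgroup V => (H : Set V)) SetLike.coe_injective
  haveI : Finite (AddSubgroup F) :=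
    Finite.of_injective (fun H : AddSubgroup F => (H : Set F)) SetLike.coe_injective
  set b := Nat.card (zfix P y) with hb
  set a := Nat.card (wstab P y) with ha
  let D : Set (AddSubgroup V × AddSubgroup F) :=
    {d | ∃ g l, P.Diag g l ∧ d = (wstab P (g • y), zfix P (g • y))}
  haveI : Fintype D := Fintype.ofFinite _
  choose gd ld hgd hd using fun d : D => d.2
  have h1 := orbit_count P hF (fun d : D => gd d • y)
    (fun i j h h' => Subtype.ext (by rw [hd i, hd j, h, h']))
    (a := a) (b := b) (fun i => card_wstab_levi P (hgd i) y) (fun i => card_zfix_levi P (hgd i) y)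
  rw [Nat.card_coe_set_eq] at h1
  -- the pairs of stabilisers and characters
  let Pr : Set (F × AddSubgroup V) :=
    {p | p.1 ≠ 0 ∧ ∃ g l, P.Diag g l ∧ p.2 = wstab P (g • y) ∧ p.1 ∈ ann P (g • y)}
  have hup : Pr.ncard * b ≤ D.ncard * (q - b) := by
    have hsub : Pr.toFinset ⊆ Finset.univ.biUnion fun d : D =>
        ((ann P (gd d • y) \ {0}).toFinset.image fun μ => (μ, d.1.1)) := by
      intro p hp
      obtain ⟨hp0, g, l, hg, hS, hp1⟩ := Set.mem_toFinset.1 hp
      let d : D := ⟨(wstab P (g • y), zfix P (g • y)), g, l, hg, rfl⟩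
      have e : zfix P (gd d • y) = zfix P (g • y) := (congrArg Prod.snd (hd d)).symm
      refine Finset.mem_biUnion.2 ⟨d, Finset.mem_univ _, Finset.mem_image.2 ⟨p.1, Set.mem_toFinset.2
        ⟨⟨hp1.1, fun t ht => hp1.2 t (e ▸ ht)⟩, hp0⟩, ?_⟩⟩
      exact Prod.ext rfl hS.symm
    have h2 := Finset.card_le_card hsub
    rw [← Set.ncard_eq_toFinset_card'] at h2
    have h3 := Nat.mul_le_mul_right b (h2.trans Finset.card_biUnion_le)
    rw [Finset.sum_mul] at h3
    refine h3.trans ((Finset.sum_le_card_nsmul _ _ _ fun d _ => ?_).trans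
      (by rw [smul_eq_mul, Finset.card_univ, ← Nat.card_eq_fintype_card, Nat.card_coe_set_eq]))
    refine (Nat.mul_le_mul_right b Finset.card_image_le).trans ?_
    have h4 := ann_ncard P hF (gd d • y)
    rw [card_zfix_levi P (hgd d) y, ← hb] at h4
    rw [← Set.ncard_eq_toFinset_card', Set.ncard_sdiff_singleton_of_mem
      (show (0 : F) ∈ ann P (gd d • y) from ⟨(zset C).zero_mem, fun t _ => by
        rw [zero_mul, AddChar.map_zero_eq_one]⟩), Nat.sub_mul, one_mul]
    omega
  have hlow : (q - 1) * (fibre P y μ).ncard ≤ Pr.ncard := by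
    obtain ⟨δ, hδ0, hδ⟩ := C.exists_trace_zero
    have hZ : ((zset C : Set F) \ {0}).ncard = q - 1 := by
      rw [Set.ncard_sdiff_singleton_of_mem (show (0 : F) ∈ (zset C : Set F) from (zset C).zero_mem)]
      exact congrArg (· - 1) ((Nat.card_coe_set_eq _).symm.trans (card_zset hF))
    have hN : ∀ ν : ↥((zset C : Set F) \ {0}), ∃ g l, P.Diag g l ∧ l * C.bar l = μ / ν.1 := fun ν => by
      refine exists_levi P hn ?_ (div_ne_zero hμ0 ν.2.2)
      rw [map_div₀, bar_zset hμ, bar_zset ν.2.1, neg_div_neg_eq]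
    choose h lh hh hhn using hN
    let T : ↥((zset C : Set F) \ {0}) × ↥(fibre P y μ) → ↥Pr := fun p =>
      ⟨(p.1.1, p.2.1.map ((C.bar (lh p.1)) • (Matrix.mulVecLin (h p.1).1.1)).toAddMonoidHom), by
        obtain ⟨g, l, hg, hS, hμg⟩ := p.2.2
        refine ⟨p.1.2.2, h p.1 * g, lh p.1 * l, diag_mul P (hh p.1) hg, ?_, ?_⟩
        · rw [mul_smul, hS]
          refine le_antisymm ?_ fun v hv => ?_
          · rintro _ ⟨w, hw, rfl⟩
            exact wstab_levi_le P (hh p.1) hw
          · have h5 := wstab_levi_le P (diag_inv P (hh p.1)) hv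
            rw [inv_smul_smul] at h5
            refine ⟨_, h5, ?_⟩
            show C.bar (lh p.1) • ((h p.1).1.1 *ᵥ (C.bar (lh p.1)⁻¹ • _)) = v
            rw [Matrix.mulVec_smul, su_mulVec_inv, smul_smul, map_inv₀,
              mul_inv_cancel₀ (by simpa using (hh p.1).ne_zero), one_smul]
        · have h5 := ann_levi P (hh p.1) hμg
          rw [hhn, div_div_cancel₀ hμ0] at h5
          rwa [mul_smul]⟩
    have hT : Function.Injective T := by
      rintro ⟨ν, S⟩ ⟨ν', S'⟩ he
      have he' := congrArg Subtype.val he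
      obtain rfl : ν = ν' := Subtype.ext (congrArg Prod.fst he')
      refine Prod.ext rfl (Subtype.ext (AddSubgroup.map_injective (fun x x' hxx => ?_) (congrArg Prod.snd he')))
      have h6 : C.bar (lh ν) • ((h ν).1.1 *ᵥ x) = C.bar (lh ν) • ((h ν).1.1 *ᵥ x') := hxx
      have h7 := smul_right_injective V (by simpa using (hh ν).ne_zero : C.bar (lh ν) ≠ 0) h6
      rw [← su_inv_mulVec (h ν) x, ← su_inv_mulVec (h ν) x']
      exact congrArg _ h7
    have := Nat.card_le_card_of_injective T hT
    rwa [Nat.card_prod, Nat.card_coe_set_eq, Nat.card_coe_set_eq, Nat.card_coe_set_eq, hZ] at this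
  have hbpos : 0 < b := Nat.card_pos
  refine Nat.le_of_mul_le_mul_right (c := b) ?_ hbpos
  calc (q - 1) * (q * Nat.card P.perp * (fibre P y μ).ncard) * b
      = q * Nat.card P.perp * ((q - 1) * (fibre P y μ).ncard * b) := by ring
    _ ≤ q * Nat.card P.perp * (D.ncard * (q - b)) := Nat.mul_le_mul_left _ ((Nat.mul_le_mul_right b hlow).trans hup)
    _ = (q - b) * (D.ncard * Nat.card P.perp * q) := by ring
    _ ≤ (q - b) * (Nat.card X * a * b) := Nat.mul_le_mul_left _ h1
    _ = _ := by ring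

end CfsgLib.PGroup.UnitIndex
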